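import Mathlib
import Cfsg.Prelude.Def_Local

/-!
The set-up for the P(G,V) theorem: an elementary abelian group `A` of operators, a perfect
subgroup `K` all whose proper normal subgroups are central, acting nontrivially on `V`.
-/

set_option autoImplicit false
set_option linter.style.haveILetI false

namespace CfsgLib.PGV

variable {p : ℕ} {G V : Type*} [Group G] [AddCommGroup V] [Module (ZMod p) V]

/-- The fixed subspace of a subgroup. -/
def fix (ρ : Representation (ZMod p) G V) (B : Subgroup G) : Submodule (ZMod p) V where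
  carrier := {v | ∀ b ∈ B, ρ b v = v}
  zero_mem' := fun b _ => map_zero _
  add_mem' := fun hu hv b hb => by rw [map_add, hu b hb, hv b hb]
  smul_mem' := fun c v hv b hb => by rw [map_smul, hv b hb]

theorem mem_fix {ρ : Representation (ZMod p) G V} {B : Subgroup G} {v : V} :
    v ∈ fix ρ B ↔ ∀ b ∈ B, ρ b v = v := Iff.rfl

theorem fix_anti {ρ : Representation (ZMod p) G V} {B C : Subgroup G} (h : B ≤ C) :
    fix ρ C ≤ fix ρ B := fun _ hv b hb => hv b (h hb)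

/-- The measure `|B| · |C_V(B)|`. -/
noncomputable def wt (ρ : Representation (ZMod p) G V) (B : Subgroup G) : ℕ :=
  Nat.card ↥B * Nat.card ↥(fix ρ B)

/-- `A` maximises the measure among its subgroups. -/
def IsMax (ρ : Representation (ZMod p) G V) (A : Subgroup G) : Prop :=
  ∀ B : Subgroup G, B ≤ A → wt ρ B ≤ wt ρ A

/-- The hypotheses on `A` and `K`. -/
structure Cfg (p : ℕ) {G V : Type*} [Group G] [AddCommGroup V] [Module (ZMod p) V]
    (ρ : Representation (ZMod p) G V) (A K : Subgroup G) : Prop where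
  commA : ∀ a ∈ A, ∀ c ∈ A, Commute a c
  powA : ∀ a ∈ A, a ^ p = 1
  perfect : ⁅K, K⁆ = K
  qs : ∀ S : Subgroup G, S ≤ K → (∀ x ∈ K, ∀ s ∈ S, x * s * x⁻¹ ∈ S) →
    S = K ∨ ∀ s ∈ S, ∀ x ∈ K, Commute s x
  comm : ∀ a ∈ A, a ∉ Subgroup.normalizer (K : Set G) → ∀ x ∈ K, ∀ y ∈ K, Commute (a * x * a⁻¹) y
  nt : ∃ g ∈ K, ρ g ≠ 1

/-- `g` commutes with `K` as operators on `V`. -/
def Cen (ρ : Representation (ZMod p) G V) (K : Subgroup G) (g : G) : Prop :=
  ∀ x ∈ K, Commute (ρ g) (ρ x)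

variable {ρ : Representation (ZMod p) G V} {A K : Subgroup G}

theorem rho_mul_inv (ρ : Representation (ZMod p) G V) (g : G) : ρ g * ρ g⁻¹ = 1 := by
  rw [← map_mul, mul_inv_cancel, map_one]

theorem rho_inv_mul (ρ : Representation (ZMod p) G V) (g : G) : ρ g⁻¹ * ρ g = 1 := by
  rw [← map_mul, inv_mul_cancel, map_one]

theorem rho_conj (ρ : Representation (ZMod p) G V) (g x : G) :
    ρ (g * x * g⁻¹) * ρ g = ρ g * ρ x := by
  rw [← map_mul, ← map_mul, inv_mul_cancel_right]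

/-- The operators commuting with `ρ K` form a subgroup. -/
def cenSubgroup (ρ : Representation (ZMod p) G V) (K : Subgroup G) : Subgroup G where
  carrier := {g | Cen ρ K g}
  one_mem' := fun x _ => by rw [map_one]; exact Commute.one_left _
  mul_mem' := fun {g h} hg hh x hx => by rw [map_mul]; exact (hg x hx).mul_left (hh x hx)
  inv_mem' := fun {g} hg x hx => by
    have h := (hg x hx).eq
    show ρ g⁻¹ * ρ x = ρ x * ρ g⁻¹
    calc ρ g⁻¹ * ρ x = ρ g⁻¹ * ρ x * (ρ g * ρ g⁻¹) := by rw [rho_mul_inv, mul_one]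
      _ = ρ g⁻¹ * (ρ g * ρ x) * ρ g⁻¹ := by rw [h]; simp only [mul_assoc]
      _ = ρ x * ρ g⁻¹ := by rw [← mul_assoc (ρ g⁻¹), rho_inv_mul, one_mul]

theorem mem_cenSubgroup {g : G} : g ∈ cenSubgroup ρ K ↔ Cen ρ K g := Iff.rfl

theorem cen_conj {g h : G} (hh : h ∈ Subgroup.normalizer (K : Set G)) (hg : Cen ρ K g) :
    Cen ρ K (h * g * h⁻¹) := by
  intro x hx
  have h1 : h⁻¹ * x * h ∈ K := (Subgroup.mem_normalizer_iff''.1 hh x).1 hx
  have h2 := (hg _ h1).eq
  rw [← map_mul, ← map_mul] at h2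
  show ρ (h * g * h⁻¹) * ρ x = ρ x * ρ (h * g * h⁻¹)
  rw [← map_mul, ← map_mul, show h * g * h⁻¹ * x = h * (g * (h⁻¹ * x * h)) * h⁻¹ by group,
    show x * (h * g * h⁻¹) = h * (h⁻¹ * x * h * g) * h⁻¹ by group, map_mul ρ (h * _), map_mul ρ h,
    h2, ← map_mul, ← map_mul]

theorem cfg_triv (c : Cfg p ρ A K) (h : ∀ x ∈ K, Cen ρ K x) : False := by
  obtain ⟨g, hg, hg1⟩ := c.nt
  have hle : ⁅K, K⁆ ≤ MonoidHom.ker ρ := by
    rw [Subgroup.commutator_le]
    intro x hx y hy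
    rw [MonoidHom.mem_ker, commutatorElement_def, map_mul, map_mul, map_mul, (h x hx y hy).eq]
    rw [mul_assoc (ρ y) (ρ x), rho_mul_inv, mul_one, rho_mul_inv]
  exact hg1 (MonoidHom.mem_ker.1 (hle (by rw [c.perfect]; exact hg)))

/-- A normal subgroup of `K` with an element not centralising `ρ K` is `K`. -/
theorem all_of (c : Cfg p ρ A K) {S : Subgroup G} (hS : S ≤ K)
    (hn : ∀ x ∈ K, ∀ s ∈ S, x * s * x⁻¹ ∈ S) {g : G} (hg : g ∈ S) (hgc : ¬ Cen ρ K g) : S = K := by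
  rcases c.qs S hS hn with h | h
  · exact h
  · exact absurd (fun x hx => (h g hg x hx).map ρ) hgc

/-- If all commutators of `g` with `K` centralise `ρ K`, so does `g`. -/
theorem cen_of_commutator (c : Cfg p ρ A K) {g : G}
    (hgK : g ∈ Subgroup.normalizer (K : Set G))
    (h : ∀ t ∈ K, Cen ρ K (g * t * g⁻¹ * t⁻¹)) : Cen ρ K g := by
  have hz : ∀ t ∈ K, g * t * g⁻¹ * t⁻¹ ∈ K := fun t ht =>
    mul_mem ((Subgroup.mem_normalizer_iff.1 hgK t).1 ht) (inv_mem ht)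
  let f : ↥K →* Module.End (ZMod p) V :=
    { toFun := fun t => ρ (g * t * g⁻¹ * (t : G)⁻¹)
      map_one' := by simp
      map_mul' := fun s t => by
        have e : g * (s * t : G) * g⁻¹ * (s * t : G)⁻¹ =
            (g * s * g⁻¹ * (s : G)⁻¹) * ((s : G) * (g * t * g⁻¹ * (t : G)⁻¹) * (s : G)⁻¹) := by group
        rw [Subgroup.coe_mul, e, map_mul]
        congr 1
        rw [map_mul, map_mul, ← (h t t.2 s s.2).eq, mul_assoc, rho_mul_inv, mul_one] }
  have hf : ∀ s t : ↥K, Commute (f s) (f t) := fun s t => h s s.2 _ (hz t t.2)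
  have hker : ⁅K, K⁆ ≤ (MonoidHom.ker f).map K.subtype := by
    rw [Subgroup.commutator_le]
    intro x hx y hy
    refine ⟨(⟨x, hx⟩ : ↥K) * ⟨y, hy⟩ * (⟨x, hx⟩ : ↥K)⁻¹ * (⟨y, hy⟩ : ↥K)⁻¹, ?_, rfl⟩
    have hu : ∀ u : ↥K, f u * f u⁻¹ = 1 := fun u => by rw [← map_mul, mul_inv_cancel, map_one]
    rw [SetLike.mem_coe, MonoidHom.mem_ker, map_mul, map_mul, map_mul,
      (hf _ _).eq, mul_assoc (f ⟨y, hy⟩), hu, mul_one, hu]
  intro x hx
  have h1 : x ∈ (MonoidHom.ker f).map K.subtype := hker (by rw [c.perfect]; exact hx)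
  obtain ⟨⟨x', hx'⟩, h2, rfl⟩ := h1
  have h3 : ρ (g * x' * g⁻¹ * x'⁻¹) = 1 := h2
  show ρ g * ρ x' = ρ x' * ρ g
  rw [← rho_conj ρ g x']
  congr 1
  calc ρ (g * x' * g⁻¹) = ρ (g * x' * g⁻¹ * x'⁻¹) * ρ x' := by
        rw [← map_mul, inv_mul_cancel_right]
    _ = ρ x' := by rw [h3, one_mul]

end CfsgLib.PGV
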