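import Cfsg.Agent.Lib.PGV.Two

/-!
The two counting contradictions for `p = 2`.
-/

set_option autoImplicit false
set_option linter.style.haveILetI false

namespace CfsgLib.PGV

variable {G V : Type*} [Group G] [Finite G] [AddCommGroup V] [Module (ZMod 2) V] [Finite V]
variable {ρ : Representation (ZMod 2) G V} {A K : Subgroup G}

/-- Fixed-point counting for an operator of prime-power order on a finite invariant subspace. -/
theorem card_modEq {r : ℕ} [Fact r.Prime] {e : ℕ} {f : Module.End (ZMod 2) V} (hf : f ^ r ^ e = 1)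
    (M : Submodule (ZMod 2) V) (hM : ∀ v ∈ M, f v ∈ M) (h0 : ∀ v ∈ M, f v = v → v = 0) :
    Nat.card ↥M ≡ 1 [MOD r] := by
  classical
  let F : ↥M → ↥M := fun v => ⟨f v, hM v v.2⟩
  have hF : ∀ (n : ℕ) (v : ↥M), ((F^[n] v : ↥M) : V) = (f ^ n) v := by
    intro n
    induction n with
    | zero => intro v; rfl
    | succ n ih =>
      intro v
      rw [Function.iterate_succ_apply', pow_succ', Module.End.mul_apply, ← ih v]
  have hb : Function.Bijective F := by
    have hinj : Function.Injective F := fun u v huv => by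
      have hpos : 0 < r ^ e := pow_pos (Fact.out : r.Prime).pos e
      have hid : ∀ w : ↥M, F^[r ^ e] w = w := fun w => Subtype.ext (by rw [hF, hf]; rfl)
      rw [← hid u, ← hid v, show r ^ e = (r ^ e - 1) + 1 by omega, Function.iterate_succ_apply,
        Function.iterate_succ_apply, huv]
    exact Finite.injective_iff_bijective.1 hinj
  let σ : Equiv.Perm ↥M := Equiv.ofBijective F hb
  have hσ : σ ^ r ^ e = 1 := by
    ext v
    rw [Equiv.Perm.coe_pow]
    show ((F^[r ^ e] v : ↥M) : V) = v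
    rw [hF, hf]; rfl
  have hP : IsPGroup r ↥(Subgroup.zpowers σ) := fun x => by
    obtain ⟨n, hn⟩ := Subgroup.mem_zpowers_iff.1 x.2
    refine ⟨e, Subtype.ext ?_⟩
    rw [SubmonoidClass.coe_pow, ← hn, ← zpow_natCast, ← zpow_mul, mul_comm, zpow_mul, zpow_natCast,
      hσ, one_zpow, Subgroup.coe_one]
  have h := hP.card_modEq_card_fixedPoints ↥M
  haveI : Unique (MulAction.fixedPoints ↥(Subgroup.zpowers σ) ↥M) :=
    { default := ⟨0, fun g => by
        have h0' : σ 0 = 0 := Subtype.ext (map_zero f)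
        have : ∀ g ∈ Subgroup.zpowers σ, (g : Equiv.Perm ↥M) 0 = 0 := by
          intro g hg
          obtain ⟨n, rfl⟩ := Subgroup.mem_zpowers_iff.1 hg
          exact Equiv.Perm.zpow_apply_eq_self_of_apply_eq_self h0' n
        exact this g g.2⟩
      uniq := fun x => Subtype.ext (Subtype.ext (h0 _ x.1.2
        (congrArg Subtype.val (x.2 ⟨σ, Subgroup.mem_zpowers σ⟩)))) }
  rwa [Nat.card_unique (α := MulAction.fixedPoints ↥(Subgroup.zpowers σ) ↥M)] at h

omit [Finite G] [Finite V] in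
theorem card_pow_two (M : Submodule (ZMod 2) V) [Finite ↥M] :
    ∃ i : ℕ, Nat.card ↥M = 2 ^ i :=
  ⟨Module.finrank (ZMod 2) ↥M, by rw [Module.natCard_eq_pow_finrank (K := ZMod 2), Nat.card_zmod]⟩

omit [Finite G] [Finite V] in
theorem moving_mul (ha : ∀ {x y : G}, x ∈ Subgroup.normalizer (K : Set G) →
      x * y ∈ Subgroup.normalizer (K : Set G) → y ∈ Subgroup.normalizer (K : Set G)) {a b : G}
    (hb : b ∈ Subgroup.normalizer (K : Set G)) (hn : a ∉ Subgroup.normalizer (K : Set G)) :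
    b * a ∉ Subgroup.normalizer (K : Set G) := fun h => hn (ha hb h)

omit [Finite G] [Finite V] in
theorem not_mem_mul {a b : G} (hb : b ∈ Subgroup.normalizer (K : Set G))
    (hn : a ∉ Subgroup.normalizer (K : Set G)) : a * b ∉ Subgroup.normalizer (K : Set G) :=
  fun h => hn (by simpa using mul_mem h (inv_mem hb))

/-- `|A| = 2 |N_A(K)|`. -/
theorem card_eq_two_mul {a : G} (ha : a ∈ A) (haN : a ∉ Subgroup.normalizer (K : Set G))
    (hind : ∀ x ∈ A, ∀ y ∈ A, x ∉ Subgroup.normalizer (K : Set G) →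
      y ∉ Subgroup.normalizer (K : Set G) → x * y ∈ Subgroup.normalizer (K : Set G)) :
    Nat.card ↥A = 2 * Nat.card ↥(A ⊓ Subgroup.normalizer (K : Set G)) := by
  classical
  have h2 : ((A ⊓ Subgroup.normalizer (K : Set G)).subgroupOf A).index = 2 := by
    rw [Subgroup.index_eq_two_iff]
    refine ⟨⟨a, ha⟩, fun b => ?_⟩
    simp only [Subgroup.mem_subgroupOf, Subgroup.coe_mul, Subgroup.mem_inf, SetLike.coe_mem,
      mul_mem b.2 ha, true_and]
    by_cases hb : (b : G) ∈ Subgroup.normalizer (K : Set G)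
    · exact Or.inr ⟨hb, fun h => haN (by simpa using mul_mem (inv_mem hb) h)⟩
    · exact Or.inl ⟨hind _ b.2 _ ha hb haN, hb⟩
  rw [Subgroup.card_eq_card_quotient_mul_card_subgroup ((A ⊓ Subgroup.normalizer (K : Set G)).subgroupOf A),
    Nat.card_congr (Subgroup.subgroupOfEquivOfLe (inf_le_left : A ⊓ _ ≤ A)).toEquiv,
    ← Subgroup.index_eq_card, h2]

section centralised

/-- `N_A(K)` cannot centralise `K`. -/
theorem centralised_false (c : Cfg 2 ρ A K) (hm : IsMax ρ A) {a : G} (ha : a ∈ A)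
    (haN : a ∉ Subgroup.normalizer (K : Set G))
    (hind : ∀ x ∈ A, ∀ y ∈ A, x ∉ Subgroup.normalizer (K : Set G) →
      y ∉ Subgroup.normalizer (K : Set G) → x * y ∈ Subgroup.normalizer (K : Set G))
    (hq : ∀ x ∈ A, ∀ y ∈ A, (ρ x - 1) * (ρ y - 1) = 0)
    (hcen : ∀ b ∈ A, b ∈ Subgroup.normalizer (K : Set G) → Cen ρ K b) : False := by
  classical
  haveI := nontrivial_V c
  set B := A ⊓ Subgroup.normalizer (K : Set G) with hB
  have hainv := inv_eq_selfA c ha
  obtain ⟨r, hr, hr5, k, hk, hkc, e, he⟩ := exists_big_prime c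
  haveI := Fact.mk hr
  set k' := a * k * a⁻¹ with hk'
  have hW : ∀ (g : G), g ∈ K → ∀ b ∈ B, (ρ b - 1) * (ρ g - ρ (a * g * a⁻¹)) = 0 := by
    intro g hg b hb
    have h1 : (ρ b - 1) * ρ a = ρ b - 1 := by
      rw [← sub_eq_zero]
      calc _ = (ρ b - 1) * (ρ a - 1) := by noncomm_ring
        _ = 0 := hq b hb.1 a ha
    have h1' : (ρ b - 1) * ρ a⁻¹ = ρ b - 1 := by rw [hainv]; exact h1
    have h2 : Commute (ρ b - 1) (ρ g) := (hcen b hb.1 hb.2 g hg).sub_left (Commute.one_left _)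
    rw [mul_sub, map_mul, map_mul, ← mul_assoc, ← mul_assoc, h1, h2.eq, mul_assoc (ρ g), h1', sub_self]
  have hcomm : Commute k' k := c.comm a ha haN k hk k hk
  have hK'K : ∀ t ∈ K, Commute (ρ k') (ρ t) := fun t ht => (c.comm a ha haN k hk t ht).map ρ
  set x := k * k'⁻¹ with hx
  set X := ρ x - 1 with hX
  have hxe : x ^ r ^ e = 1 := by
    rw [hx, (hcomm.symm.inv_right).mul_pow, he, inv_pow, hk', conj_pow, he]; group
  have hX1 : X = (ρ k - ρ k') * ρ k'⁻¹ := by
    rw [hX, hx, sub_mul, rho_mul_inv, map_mul]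
  set W := fix ρ B with hWdef
  have hXW : ∀ v, X v ∈ W := fun v b hb => by
    have h := LinearMap.congr_fun (hW k hk b hb) (ρ k'⁻¹ v)
    rw [hX1]
    exact sub_eq_zero.1 h
  have hWK : ∀ g ∈ K, ∀ w ∈ W, ρ g w ∈ W := fun g hg w hw b hb => by
    rw [← Module.End.mul_apply, (hcen b hb.1 hb.2 g hg).eq, Module.End.mul_apply, hw b hb]
  set W₀ := fix ρ A with hW₀
  have hW₀le : W₀ ≤ W := fix_anti inf_le_left
  have hindex : Nat.card ↥W ≤ 2 * Nat.card ↥W₀ := by
    have h := hm B inf_le_left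
    rw [wt, wt, card_eq_two_mul ha haN hind, mul_comm 2, mul_assoc] at h
    exact Nat.le_of_mul_le_mul_left h Nat.card_pos
  set W₁ := W₀.map (ρ k) with hW₁
  have hW₁le : W₁ ≤ W := by rintro _ ⟨w, hw, rfl⟩; exact hWK k hk w (hW₀le hw)
  have hW₁card : Nat.card ↥W₁ = Nat.card ↥W₀ := by
    refine (Nat.card_congr (Submodule.equivMapOfInjective (ρ k) ?_ W₀).toEquiv).symm
    intro u v huv
    rw [← rho_inv_apply (ρ := ρ) k u, huv, rho_inv_apply]
  set W₂ := W₀ ⊓ W₁ with hW₂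
  have hker : ∀ v ∈ W₂, ρ x v = v := by
    rintro v ⟨hv, w, hw, rfl⟩
    rw [hx, hk', show k * (a * k * a⁻¹)⁻¹ = k * a * k⁻¹ * a⁻¹ by group, map_mul, map_mul, map_mul]
    simp only [Module.End.mul_apply]
    rw [hv a⁻¹ (inv_mem ha), rho_inv_apply, hw a ha]
  have hcardW₂ : Nat.card ↥W ≤ 4 * Nat.card ↥W₂ := by
    have hU : Nat.card ↥W₀ * Nat.card ↥W₁ = Nat.card ↥(W₀ ⊔ W₁) * Nat.card ↥W₂ := by
      rw [card_sub_mul_quot (le_sup_right : W₁ ≤ W₀ ⊔ W₁), card_sub_mul_quot (inf_le_left : W₂ ≤ W₀),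
        ← Nat.card_congr (LinearMap.quotientInfEquivSupQuotient W₀ W₁).toEquiv, hW₂, Submodule.comap_inf]
      ring
    have h1 : Nat.card ↥(W₀ ⊔ W₁) ≤ Nat.card ↥W :=
      Nat.card_mono (Set.toFinite _) (sup_le hW₀le hW₁le)
    rw [hW₁card] at hU
    refine Nat.le_of_mul_le_mul_left ?_ (Nat.card_pos : 0 < Nat.card ↥W)
    calc Nat.card ↥W * Nat.card ↥W ≤ (2 * Nat.card ↥W₀) * (2 * Nat.card ↥W₀) := Nat.mul_le_mul hindex hindex
      _ = 4 * (Nat.card ↥(W₀ ⊔ W₁) * Nat.card ↥W₂) := by rw [← hU]; ring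
      _ ≤ _ := by rw [mul_left_comm (Nat.card ↥W)]; gcongr
  -- `X ^ q = X`
  have hxrho : ρ x ^ r ^ e = 1 := by rw [← map_pow, hxe, map_one]
  obtain ⟨m, hm1, hpow⟩ := exists_q (p := 2) (n := r ^ e)
    (Nat.Coprime.pow_left e ((Nat.coprime_primes hr Nat.prime_two).2 (by omega)))
  have hXq : X ^ 2 ^ m = X := sub_pow_q (Commute.one_right _) (hpow _ hxrho) (one_pow _)
  set M := LinearMap.range X with hM
  have hMW : ∀ v, ∃ w ∈ W, X v = X w := fun v => by
    have hq2 := two_le_pow (p := 2) hm1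
    refine ⟨X ((X ^ (2 ^ m - 2)) v), hXW _, ?_⟩
    conv_lhs => rw [← hXq, show 2 ^ m = 1 + (1 + (2 ^ m - 2)) by omega, pow_add, pow_one, pow_add,
      pow_one]
    rfl
  have hMcard : Nat.card ↥M ≤ 4 := by
    let f : ↥W →ₗ[ZMod 2] V := X.comp W.subtype
    have hfr : LinearMap.range f = M := by
      refine le_antisymm (by rintro _ ⟨w, rfl⟩; exact ⟨(w : V), rfl⟩) ?_
      rintro _ ⟨v, rfl⟩
      obtain ⟨w, hw, hvw⟩ := hMW v
      exact ⟨⟨w, hw⟩, hvw.symm⟩
    have h1 := Submodule.card_eq_card_quotient_mul_card (LinearMap.ker f)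
    rw [Nat.card_congr f.quotKerEquivRange.toEquiv, hfr] at h1
    have h2 : Nat.card ↥W₂ ≤ Nat.card ↥(LinearMap.ker f) := by
      refine Nat.card_le_card_of_injective
        (fun v : ↥W₂ => (⟨⟨v.1, hW₀le v.2.1⟩, ?_⟩ : ↥(LinearMap.ker f)))
        fun u v huv => Subtype.ext (congrArg (fun z => ((z.1 : ↥W) : V)) huv)
      rw [LinearMap.mem_ker]
      show ρ x (v : V) - (v : V) = 0
      rw [hker v v.2, sub_self]
    have h3 : Nat.card ↥(LinearMap.ker f) * Nat.card ↥M ≤ Nat.card ↥(LinearMap.ker f) * 4 :=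
      calc _ = Nat.card ↥W := by rw [h1, mul_comm]
        _ ≤ 4 * Nat.card ↥W₂ := hcardW₂
        _ ≤ _ := by rw [mul_comm]; gcongr
    exact Nat.le_of_mul_le_mul_left h3 Nat.card_pos
  have hmod := card_modEq (r := r) (e := e) hxrho M
    (by rintro _ ⟨v, rfl⟩; exact ⟨ρ x v, by
          rw [hX, LinearMap.sub_apply, LinearMap.sub_apply, Module.End.one_apply, Module.End.one_apply, map_sub]⟩)
    (by
      rintro _ ⟨v, rfl⟩ hv
      have hq2 := two_le_pow (p := 2) hm1
      have h2 : X (X v) = 0 := by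
        show ρ x (X v) - X v = 0
        rw [hv, sub_self]
      rw [← hXq, show 2 ^ m = (2 ^ m - 2) + (1 + 1) by omega, pow_add, pow_add, pow_one]
      show (X ^ (2 ^ m - 2)) (X (X v)) = 0
      rw [h2, map_zero])
  have hM1 : Nat.card ↥M = 1 := by
    have h1 := Nat.card_pos (α := ↥M)
    rw [Nat.ModEq, Nat.mod_eq_of_lt (by omega), Nat.mod_eq_of_lt (by omega)] at hmod
    exact hmod
  have hX0 : X = 0 := by
    ext v
    haveI := (Nat.card_eq_one_iff_unique.1 hM1).1
    exact congrArg Subtype.val (Subsingleton.elim (⟨X v, v, rfl⟩ : ↥M) 0)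
  refine hkc fun t ht => ?_
  have : ρ k = ρ k' := by
    rw [hX1] at hX0
    have h := congrArg (fun Z => Z * ρ k') hX0
    simp only [mul_assoc, rho_inv_mul, mul_one, zero_mul] at h
    exact sub_eq_zero.1 h
  rw [this]; exact hK'K t ht

end centralised

section endgame

variable (c : Cfg 2 ρ A K) (hT : TrInv ρ A K) {a : G} (ha : a ∈ A)
  (haN : a ∉ Subgroup.normalizer (K : Set G)) {b k : G} (hbA : b ∈ A)
  (hk : OddNC ρ K k) (hinv : b * k * b⁻¹ = k⁻¹)
  (hpair : ∀ d ∈ A, (ρ b - 1) * (ρ d - 1) = 0)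

/-- `C_{[V,K]}(b)`. -/
def nB (ρ : Representation (ZMod 2) G V) (K : Subgroup G) (b : G) : Submodule (ZMod 2) V :=
  mV ρ K ⊓ LinearMap.ker (ρ b - 1)

omit [Finite G] [Finite V] in
theorem mem_nB {b : G} {v : V} : v ∈ nB ρ K b ↔ v ∈ mV ρ K ∧ ρ b v = v := by
  rw [nB, Submodule.mem_inf, LinearMap.mem_ker, LinearMap.sub_apply, Module.End.one_apply, sub_eq_zero]

omit [Finite G] [Finite V] in
theorem inv_fix {d k : G} {v : V} (hinv : d * k * d⁻¹ = k⁻¹) (h : ρ d v = v) :
    ρ d (ρ k v) - ρ k v = tr ρ k v := by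
  have e : ρ d (ρ k v) = ρ k⁻¹ (ρ d v) := by
    rw [← Module.End.mul_apply, ← Module.End.mul_apply, ← map_mul, ← map_mul, ← hinv,
      inv_mul_cancel_right]
  rw [e, h, sub_eq_addV, tr_apply, add_comm]

include c hT ha haN hk hinv

theorem b_free {v : V} (hv : v ∈ nB ρ K b) : ∃ w ∈ mV ρ K, ρ b w - w = v := by
  obtain ⟨hvY, hvb⟩ := mem_nB.1 hv
  obtain ⟨z, hz, hzv⟩ := tr_surj c hT ha haN hk hvY
  by_cases hzb : ρ b z = z
  · exact ⟨ρ k z, mV_inv c hT ha haN hk (Or.inr hk.mem) hz, by rw [inv_fix hinv hzb, hzv]⟩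
  · exfalso
    apply hzb
    have hzbY : ρ b z ∈ mV ρ K := by
      rw [← range_tr c hT ha haN hk] at hz ⊢
      obtain ⟨w, rfl⟩ := hz
      refine ⟨ρ b w, ?_⟩
      rw [← Module.End.mul_apply, ← Module.End.mul_apply]
      congr 1
      simp only [tr, add_mul, mul_add, ← map_mul]
      rw [add_comm]
      congr 1
      · rw [← hinv, inv_mul_cancel_right]
      · congr 1
        calc k * b = (b * k * b⁻¹)⁻¹ * b := by rw [hinv, inv_inv]
          _ = b * k⁻¹ := by group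
    have h0 := tr_inj c hT ha haN hk (Submodule.sub_mem _ hzbY hz) (by
      rw [map_sub, hzv, ← Module.End.mul_apply]
      have hcm : tr ρ k * ρ b = ρ b * tr ρ k := by
        simp only [tr, add_mul, mul_add, ← map_mul]
        rw [add_comm]
        congr 1
        · rw [← hinv, inv_mul_cancel_right]
        · congr 1
          calc k * b = (b * k * b⁻¹)⁻¹ * b := by rw [hinv, inv_inv]
            _ = b * k⁻¹ := by group
      rw [hcm, Module.End.mul_apply, hzv, hvb, sub_self])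
    exact sub_eq_zero.1 h0

include hbA hpair

theorem mem_nB_of_img {d : G} (hd : d ∈ A) {y : V} (hy : y ∈ mV ρ K) : ρ d y - y ∈ nB ρ K b := by
  refine mem_nB.2 ⟨Submodule.sub_mem _ (mV_inv c hT ha haN hk (Or.inl hd) hy) hy, ?_⟩
  exact sub_eq_zero.1 (LinearMap.congr_fun (hpair d hd) y)

theorem fix_nB {d : G} (hd : d ∈ A) {v : V} (hv : v ∈ nB ρ K b) : ρ d v = v := by
  obtain ⟨w, -, rfl⟩ := b_free c hT ha haN hk hinv hv
  have h : ρ b (ρ d w - w) - (ρ d w - w) = 0 := LinearMap.congr_fun (hpair d hd) w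
  rw [symm_cond c.commA hd hbA] at h
  exact sub_eq_zero.1 h

theorem tr_nB {v : V} (hv : v ∈ nB ρ K b) : tr ρ k v ∈ nB ρ K b := by
  obtain ⟨hvY, hvb⟩ := mem_nB.1 hv
  refine mem_nB.2 ⟨?_, ?_⟩
  · rw [← range_tr c hT ha haN hk]; exact ⟨v, rfl⟩
  · rw [← Module.End.mul_apply, (tr_commA c hT ha haN hk.mem hbA).eq, Module.End.mul_apply, hvb]

theorem k_nB {v : V} (hv : v ∈ nB ρ K b) : ρ k v ∈ mV ρ K :=
  mV_inv c hT ha haN hk (Or.inr hk.mem) (mem_nB.1 hv).1

theorem decomp {y : V} (hy : y ∈ mV ρ K) :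
    ∃ n₁ ∈ nB ρ K b, ∃ n₂ ∈ nB ρ K b, y = n₁ + ρ k n₂ := by
  have h := mem_nB_of_img c hT ha haN hbA hk hinv hpair hbA hy
  obtain ⟨hY, hb'⟩ := mem_nB.1 h
  obtain ⟨z, hz, hzv⟩ := tr_surj c hT ha haN hk hY
  have hzb : z ∈ nB ρ K b := by
    refine mem_nB.2 ⟨hz, sub_eq_zero.1 (tr_inj c hT ha haN hk
      (Submodule.sub_mem _ (mV_inv c hT ha haN hk (Or.inl hbA) hz) hz) ?_)⟩
    rw [map_sub, ← Module.End.mul_apply, ← (tr_commA c hT ha haN hk.mem hbA).eq, Module.End.mul_apply,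
      hzv, hb', sub_self]
  refine ⟨y - ρ k z, mem_nB.2 ⟨Submodule.sub_mem _ hy (k_nB c hT ha haN hbA hk hinv hpair hzb), ?_⟩,
    z, hzb, (sub_add_cancel _ _).symm⟩
  have h1 := inv_fix hinv (mem_nB.1 hzb).2
  rw [hzv] at h1
  rw [map_sub, sub_eq_sub_iff_sub_eq_sub, h1]

theorem decomp_unique {n₁ n₂ : V} (h₁ : n₁ ∈ nB ρ K b) (h₂ : n₂ ∈ nB ρ K b)
    (h : n₁ + ρ k n₂ = 0) : n₁ = 0 ∧ n₂ = 0 := by
  have hb1 := congrArg (fun v => ρ b v - v) h
  simp only [map_add, map_zero, sub_self, (mem_nB.1 h₁).2] at hb1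
  have h2 : n₂ = 0 := by
    refine tr_inj c hT ha haN hk (mem_nB.1 h₂).1 ?_
    rw [← inv_fix hinv (mem_nB.1 h₂).2, ← hb1]; abel
  exact ⟨by rw [h2, map_zero, add_zero] at h; exact h, h2⟩

theorem card_mV : Nat.card ↥(mV ρ K) = Nat.card ↥(nB ρ K b) * Nat.card ↥(nB ρ K b) := by
  rw [← Nat.card_prod]
  refine (Nat.card_congr (Equiv.ofBijective
    (fun n : ↥(nB ρ K b) × ↥(nB ρ K b) => (⟨(n.1 : V) + ρ k n.2, Submodule.add_mem _ (mem_nB.1 n.1.2).1
      (k_nB c hT ha haN hbA hk hinv hpair n.2.2)⟩ : ↥(mV ρ K))) ⟨?_, ?_⟩)).symm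
  · intro u v huv
    have h : (u.1 : V) + ρ k u.2 = v.1 + ρ k v.2 := congrArg Subtype.val huv
    obtain ⟨h1, h2⟩ := decomp_unique c hT ha haN hbA hk hinv hpair (Submodule.sub_mem _ u.1.2 v.1.2)
      (Submodule.sub_mem _ u.2.2 v.2.2) (by
        rw [map_sub, sub_add_sub_comm, h, sub_self])
    exact Prod.ext (Subtype.ext (sub_eq_zero.1 h1)) (Subtype.ext (sub_eq_zero.1 h2))
  · intro y
    obtain ⟨n₁, h₁, n₂, h₂, hy⟩ := decomp c hT ha haN hbA hk hinv hpair y.2
    exact ⟨(⟨n₁, h₁⟩, ⟨n₂, h₂⟩), Subtype.ext hy.symm⟩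

/-- The contradiction when some element of `N_A(K)` moves `K` pointwise. -/
theorem endgame_false (hbN : b ∈ Subgroup.normalizer (K : Set G)) (hm : IsMax ρ A)
    (hind : ∀ x ∈ A, ∀ y ∈ A, x ∉ Subgroup.normalizer (K : Set G) →
      y ∉ Subgroup.normalizer (K : Set G) → x * y ∈ Subgroup.normalizer (K : Set G)) : False := by
  classical
  haveI := nontrivial_V c
  set N := nB ρ K b with hNdef
  set Y := mV ρ K with hYdef
  have img : ∀ {d : G}, d ∈ A → ∀ {y : V}, y ∈ Y → ρ d y - y ∈ N := fun hd _ hy =>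
    mem_nB_of_img c hT ha haN hbA hk hinv hpair hd hy
  have hfixN : ∀ {d : G}, d ∈ A → ∀ {v : V}, v ∈ N → ρ d v = v := fun hd _ hv =>
    fix_nB c hT ha haN hbA hk hinv hpair hd hv
  have htrN : ∀ {v : V}, v ∈ N → tr ρ k v ∈ N := fun hv => tr_nB c hT ha haN hbA hk hinv hpair hv
  have hkN : ∀ {v : V}, v ∈ N → ρ k v ∈ Y := fun hv => k_nB c hT ha haN hbA hk hinv hpair hv
  let T : Module.End (ZMod 2) ↥N := (tr ρ k).restrict fun v hv => htrN hv
  let γ : ∀ d : G, d ∈ A → Module.End (ZMod 2) ↥N := fun d hd =>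
    ((ρ d - 1).comp (ρ k)).restrict fun v hv => img hd (hkN hv)
  have γv : ∀ d hd (v : ↥N), ((γ d hd v : ↥N) : V) = ρ d (ρ k v) - ρ k v := fun d hd v => rfl
  have hγb : γ b hbA = T := by
    refine LinearMap.ext fun v => Subtype.ext ?_
    exact inv_fix hinv (mem_nB.1 v.2).2
  have hγmul : ∀ d hd d' hd', γ (d * d') (mul_mem hd hd') = γ d hd + γ d' hd' := by
    intro d hd d' hd'
    refine LinearMap.ext fun v => Subtype.ext ?_
    rw [LinearMap.add_apply, Submodule.coe_add, γv _ (mul_mem hd hd'), γv d hd, γv d' hd', map_mul, Module.End.mul_apply]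
    have h1 := hfixN hd (img hd' (hkN v.2))
    rw [map_sub] at h1
    calc ρ d (ρ d' (ρ k (v : V))) - ρ k v
        = (ρ d (ρ d' (ρ k (v : V))) - ρ d (ρ k v)) + (ρ d (ρ k v) - ρ k v) := by abel
      _ = _ := by rw [h1]; abel
  -- elements with the same `γ` agree on `Y`
  have hγzero : ∀ d hd, γ d hd = 0 → ∀ y ∈ Y, ρ d y = y := by
    intro d hd h0 y hy
    obtain ⟨n₁, h₁, n₂, h₂, rfl⟩ := decomp c hT ha haN hbA hk hinv hpair hy
    have h := congrArg Subtype.val (LinearMap.congr_fun h0 ⟨n₂, h₂⟩)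
    rw [γv d hd] at h
    rw [map_add, hfixN hd h₁, sub_eq_zero.1 h]
  have hKk : ∀ v : V, v ∈ cV ρ K → ∀ g ∈ K, ρ g v = v := fun v hv g hg => hv g hg
  have hmovne : ∀ d hd, d ∉ Subgroup.normalizer (K : Set G) → γ d hd ≠ 0 := by
    intro d hd hdN h0
    apply hk.nc
    intro t ht
    have e : ρ k = ρ (d * k * d⁻¹) := by
      refine LinearMap.ext fun v => ?_
      obtain ⟨u, hu, y, hy, rfl⟩ := exists_split c hT ha haN hk v
      rw [map_mul, map_mul, Module.End.mul_apply, Module.End.mul_apply, map_add, map_add, map_add,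
        map_add]
      congr 1
      · rw [hKk u hu k hk.mem, hKk _ (cV_inv c hT ha haN hk (Or.inl (inv_mem hd)) hu) k hk.mem,
          rho_apply_inv]
      · have hy' : ρ d⁻¹ y = y := by
          conv_lhs => rw [← hγzero d hd h0 y hy, rho_inv_apply]
        rw [hy', hγzero d hd h0 _ (mV_inv c hT ha haN hk (Or.inr hk.mem) hy)]
    rw [e]; exact (c.comm d hd hdN k hk.mem t ht).map ρ
  have hγT : ∀ d hd, Commute T (γ d hd) := by
    intro d hd
    refine LinearMap.ext fun v => Subtype.ext ?_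
    show tr ρ k (ρ d (ρ k (v : V)) - ρ k v) = ρ d (ρ k (tr ρ k v)) - ρ k (tr ρ k v)
    have h1 : tr ρ k (ρ k (v : V)) = ρ k (tr ρ k v) := by
      rw [← Module.End.mul_apply, (tr_cen c hT ha haN hk.mem hk.mem).eq, Module.End.mul_apply]
    rw [map_sub, ← Module.End.mul_apply, ← (tr_commA c hT ha haN hk.mem hd).eq, Module.End.mul_apply, h1]
  have hidem : ∀ d hd, d ∉ Subgroup.normalizer (K : Set G) → γ d hd * γ d hd = T * γ d hd := by
    intro d hd hdN
    refine LinearMap.ext fun v => Subtype.ext ?_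
    show ((γ d hd (γ d hd v) : ↥N) : V) = tr ρ k (γ d hd v : ↥N)
    set w : V := ((γ d hd v : ↥N) : V) with hw
    rw [γv d hd]
    have hd' := inv_eq_selfA c hd
    set k' := d * k * d⁻¹ with hk'
    have hdk : ρ d (ρ k (v : V)) = ρ k v + w := by rw [hw, γv d hd]; abel
    have hdv : ρ d (v : V) = v := hfixN hd v.2
    have hdw : ρ d w = w := hfixN hd (γ d hd v).2
    have hTk : ρ d (tr ρ k (ρ k (v : V))) = tr ρ k (ρ k v) + tr ρ k w := by
      rw [← Module.End.mul_apply, (tr_commA c hT ha haN hk.mem hd).eq, Module.End.mul_apply, hdk, map_add]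
    have e1 : ρ k' (v : V) = ρ k v + w := by
      rw [hk', map_mul, map_mul, Module.End.mul_apply, Module.End.mul_apply, hfixN (inv_mem hd) v.2, hdk]
    have e2 : ρ k' (ρ k (v : V)) =
        tr ρ k (ρ k v) + tr ρ k w + v + ρ d (ρ k w) := by
      rw [hk', map_mul, map_mul, Module.End.mul_apply, Module.End.mul_apply, hd', hdk, map_add,
        sq_eq_tr, map_add, map_add, hTk, hdv]
    have e3 : ρ k' (ρ k (v : V)) = ρ k (ρ k' v) := by
      rw [← Module.End.mul_apply, ((c.comm d hd hdN k hk.mem k hk.mem).map ρ).eq, Module.End.mul_apply]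
    rw [e2, e1, map_add, sq_eq_tr] at e3
    have h4 : tr ρ k w + (ρ d (ρ k w) - ρ k w) = 0 := by
      calc tr ρ k w + (ρ d (ρ k w) - ρ k w)
          = (tr ρ k (ρ k v) + tr ρ k w + v + ρ d (ρ k w)) - (tr ρ k (ρ k v) + v + ρ k w) := by abel
        _ = 0 := by rw [e3, sub_self]
    rw [← sub_eq_zero, sub_eq_addV, add_comm]
    exact h4
  -- the space `D`
  set B := A ⊓ Subgroup.normalizer (K : Set G) with hB
  let φ : ↥B →* Multiplicative (Module.End (ZMod 2) ↥N) :=
    { toFun := fun d => Multiplicative.ofAdd (γ d d.2.1)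
      map_one' := by
        have : γ 1 (one_mem A) = 0 := LinearMap.ext fun v => Subtype.ext (by
          rw [γv 1 (one_mem A), map_one]; simp)
        exact congrArg Multiplicative.ofAdd this
      map_mul' := fun d d' => by
        rw [← ofAdd_add, ← hγmul _ d.2.1 _ d'.2.1]; rfl }
  set D : Set (Module.End (ZMod 2) ↥N) := Set.range fun d : ↥B => γ d d.2.1 with hD
  have hDadd : ∀ C ∈ D, ∀ C' ∈ D, C + C' ∈ D := by
    rintro _ ⟨d, rfl⟩ _ ⟨d', rfl⟩
    exact ⟨d * d', hγmul _ d.2.1 _ d'.2.1⟩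
  have add_selfE : ∀ X : Module.End (ZMod 2) ↥N, X + X = 0 := fun X =>
    LinearMap.ext fun v => add_selfV _
  have hDinj : ∀ C ∈ D, C ≠ 0 → ∀ v, C v = 0 → v = 0 := by
    rintro _ ⟨d, rfl⟩ hne v hv
    have hvd : ρ (d : G) (ρ k (v : V)) = ρ k v := by
      have h := congrArg Subtype.val hv
      change ((γ d d.2.1 v : ↥N) : V) = 0 at h
      rwa [γv _ d.2.1, sub_eq_zero] at h
    by_cases hd : Cen ρ K (d : G)
    · refine absurd (LinearMap.ext fun u => Subtype.ext ?_) hne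
      rw [LinearMap.zero_apply, Submodule.coe_zero]
      show ρ (d : G) (ρ k (u : V)) - ρ k u = 0
      rw [← Module.End.mul_apply, (hd k hk.mem).eq, Module.End.mul_apply, hfixN d.2.1 u.2, sub_self]
    · obtain ⟨k₁, hk₁, hinv₁⟩ := exists_inverted c d.2.1 d.2.2 hd
      have hmem : ρ k (v : V) ∈ nB ρ K (d : G) := mem_nB.2 ⟨hkN v.2, hvd⟩
      obtain ⟨w, hw, hwv⟩ := b_free c hT ha haN hk₁ hinv₁ hmem
      have h1 : ρ k (v : V) ∈ N := hwv ▸ img d.2.1 hw
      have h2 := inv_fix hinv (mem_nB.1 v.2).2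
      rw [hfixN hbA h1, sub_self] at h2
      exact Subtype.ext (tr_inj c hT ha haN hk (mem_nB.1 v.2).1 h2.symm)
  set Am := γ a ha with hAm
  have hrel : ∀ C ∈ D, C * C + T * C = Am * C + C * Am := by
    rintro _ ⟨d, rfl⟩
    have h := hidem (a * d) (mul_mem ha d.2.1) (not_mem_mul d.2.2 haN)
    rw [hγmul _ ha _ d.2.1, ← hAm] at h
    set C := γ d d.2.1
    have hA2 := hidem a ha haN
    rw [← hAm] at hA2
    have h2 : Am * C + C * Am + C * C = T * C := by
      simp only [mul_add, add_mul, hA2] at h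
      calc Am * C + C * Am + C * C = (T * Am + C * Am + (Am * C + C * C)) - T * Am := by abel
        _ = (T * Am + T * C) - T * Am := by rw [h]
        _ = _ := by abel
    calc C * C + T * C = C * C + (Am * C + C * Am + C * C) := by rw [h2]
      _ = Am * C + C * Am + (C * C + C * C) := by abel
      _ = _ := by rw [add_selfE, add_zero]
  have hDcomm : ∀ C ∈ D, ∀ C' ∈ D, Commute C C' := by
    intro C hC C' hC'
    have h := hrel _ (hDadd C hC C' hC')
    have h0 : C * C' + C' * C = 0 := by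
      calc C * C' + C' * C = ((C + C') * (C + C') + T * (C + C')) - (C * C + T * C) - (C' * C' + T * C') := by
            noncomm_ring
        _ = 0 := by rw [h, hrel C hC, hrel C' hC']; noncomm_ring
    show C * C' = C' * C
    calc C * C' = (C * C' + C' * C) - C' * C := by abel
      _ = C' * C := by rw [h0, zero_sub]; exact neg_eq_of_add_eq_zero_left (add_selfE _)
  have hsq : ∀ C ∈ D, Commute (C * C) Am := by
    intro C hC
    have hTC : Commute T C := by obtain ⟨d, rfl⟩ := hC; exact hγT _ d.2.1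
    have hTA : Commute T Am := hγT a ha
    have hA2 : Am * Am = T * Am := hidem a ha haN
    have hx : C * C = (Am * C + C * Am) + T * C := by
      rw [← hrel C hC, add_assoc, add_selfE, add_zero]
    show C * C * Am = Am * (C * C)
    rw [hx, add_mul, mul_add, add_mul, mul_add]
    have e1 : Am * (Am * C) = T * (Am * C) := by rw [← mul_assoc, hA2, mul_assoc]
    have e2 : Am * (T * C) = T * (Am * C) := by rw [← mul_assoc, ← hTA.eq, mul_assoc]
    have e3 : C * Am * Am = T * (C * Am) := by rw [mul_assoc, hA2, ← mul_assoc, ← hTC.eq, mul_assoc]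
    have e4 : T * C * Am = T * (C * Am) := mul_assoc _ _ _
    rw [e1, e2, e3, e4, mul_assoc Am C Am, add_assoc, add_selfE, add_zero,
      add_comm (T * (Am * C)) (Am * (C * Am)), add_assoc, add_selfE, add_zero]
  have hbound : ∀ M : Submodule (ZMod 2) ↥N, M ≠ ⊥ → (∀ C ∈ D, ∀ v ∈ M, (C * C) v ∈ M) →
      Nat.card ↥D ≤ Nat.card ↥M := by
    intro M hM hMinv
    obtain ⟨w, hw, hw0⟩ := (Submodule.ne_bot_iff _).1 hM
    refine Nat.card_le_card_of_injective
      (fun C : ↥D => (⟨(C.1 * C.1) w, hMinv C.1 C.2 w hw⟩ : ↥M)) ?_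
    intro C C' h
    have h' : (C.1 * C.1) w = (C'.1 * C'.1) w := congrArg Subtype.val h
    by_contra hne
    have hs : C.1 + C'.1 ≠ 0 := fun h0 => hne (Subtype.ext (by
      calc C.1 = C.1 + (C'.1 + C'.1) := by rw [add_selfE, add_zero]
        _ = C'.1 := by rw [← add_assoc, h0, zero_add]))
    have hsum : ((C.1 + C'.1) * (C.1 + C'.1)) w = 0 := by
      rw [show (C.1 + C'.1) * (C.1 + C'.1) = C.1 * C.1 + C'.1 * C'.1 + (C.1 * C'.1 + C'.1 * C.1) by
        noncomm_ring, (hDcomm _ C.2 _ C'.2).eq, add_selfE, add_zero, LinearMap.add_apply, h']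
      exact add_selfV _
    exact hw0 (hDinj _ (hDadd _ C.2 _ C'.2) hs w (hDinj _ (hDadd _ C.2 _ C'.2) hs _ hsum))
  have hA0 : Am ≠ 0 := hmovne a ha haN
  have hAker : LinearMap.ker Am ≠ ⊥ := by
    intro hker
    have h : Am + T = 0 := by
      refine LinearMap.ext fun v => LinearMap.ker_eq_bot.1 hker ?_
      rw [LinearMap.zero_apply, map_zero, LinearMap.add_apply, map_add]
      show (Am * Am) v + (Am * T) v = 0
      rw [hidem a ha haN, (hγT a ha).eq]
      exact add_selfV _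
    exact hmovne (a * b) (mul_mem ha hbA) (not_mem_mul hbN haN) (by rw [hγmul _ ha _ hbA, hγb, ← hAm, h])
  have hD1 : Nat.card ↥D ≤ Nat.card ↥(LinearMap.range Am) :=
    hbound _ (fun h => hA0 (LinearMap.range_eq_bot.1 h)) (by
      rintro C hC _ ⟨v, rfl⟩
      exact ⟨(C * C) v, by rw [← Module.End.mul_apply, ← (hsq C hC).eq]; rfl⟩)
  have hD2 : Nat.card ↥D ≤ Nat.card ↥(LinearMap.ker Am) :=
    hbound _ hAker (by
      intro C hC v hv
      rw [LinearMap.mem_ker, ← Module.End.mul_apply, ← (hsq C hC).eq, Module.End.mul_apply,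
        LinearMap.mem_ker.1 hv, map_zero])
  have hNfac : Nat.card ↥N = Nat.card ↥(LinearMap.range Am) * Nat.card ↥(LinearMap.ker Am) := by
    rw [Submodule.card_eq_card_quotient_mul_card (LinearMap.ker Am),
      Nat.card_congr Am.quotKerEquivRange.toEquiv]
    ring
  -- counting
  have hYcard : Nat.card ↥Y = Nat.card ↥N * Nat.card ↥N := card_mV c hT ha haN hbA hk hinv hpair
  set U' := cV ρ K ⊓ fix ρ A with hU'
  have hAfix : Nat.card ↥(fix ρ A) ≤ Nat.card ↥U' * Nat.card ↥N := by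
    rw [← Nat.card_prod]
    choose u hu y hy huy using fun v : ↥(fix ρ A) => exists_split c hT ha haN hk (v : V)
    have hfixy : ∀ v, ∀ d ∈ A, ρ d (u v) = u v ∧ ρ d (y v) = y v := fun v d hd => by
      have h := v.2 d hd
      rw [huy v, map_add] at h
      have h1 : ρ d (u v) - u v = y v - ρ d (y v) := by
        calc ρ d (u v) - u v = (ρ d (u v) + ρ d (y v)) - u v - ρ d (y v) := by abel
          _ = _ := by rw [h]; abel
      have h2 : ρ d (u v) - u v = 0 := disjoint_cV c hT ha haN hk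
        (h1 ▸ Submodule.sub_mem _ (hy v) (mV_inv c hT ha haN hk (Or.inl hd) (hy v)))
        (Submodule.sub_mem _ (cV_inv c hT ha haN hk (Or.inl hd) (hu v)) (hu v))
      exact ⟨sub_eq_zero.1 h2, (sub_eq_zero.1 (h1 ▸ h2)).symm⟩
    refine Nat.card_le_card_of_injective (fun v =>
      ((⟨u v, hu v, fun d hd => (hfixy v d hd).1⟩ : ↥U'),
       (⟨y v, mem_nB.2 ⟨hy v, (hfixy v b hbA).2⟩⟩ : ↥N))) ?_
    intro v v' h
    apply Subtype.ext
    have h1 : u v = u v' := congrArg (fun z => ((z.1 : ↥U') : V)) h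
    have h2 : y v = y v' := congrArg (fun z => ((z.2 : ↥N) : V)) h
    rw [huy v, huy v', h1, h2]
  set B1 := φ.ker.map B.subtype with hB1
  have hB1le : B1 ≤ A := (Subgroup.map_subtype_le _).trans inf_le_left
  have hB1fix : Nat.card ↥U' * Nat.card ↥Y ≤ Nat.card ↥(fix ρ B1) := by
    rw [← Nat.card_prod]
    refine Nat.card_le_card_of_injective (fun z => (⟨(z.1 : V) + z.2, ?_⟩ : ↥(fix ρ B1))) ?_
    · rintro _ ⟨d, hd, rfl⟩
      have h0 : γ d d.2.1 = 0 := Multiplicative.ofAdd.injective hd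
      rw [map_add, Subgroup.coe_subtype, z.1.2.2 _ d.2.1]
      exact congrArg _ (hγzero _ d.2.1 h0 _ z.2.2)
    · intro z z' h
      have h' := congrArg Subtype.val h
      have h1 : (z.1 : V) - z'.1 = (z'.2 : V) - z.2 := by
        rw [sub_eq_sub_iff_add_eq_add, add_comm (z'.2 : V)]; exact h'
      have h2 := disjoint_cV c hT ha haN hk (h1 ▸ Submodule.sub_mem _ z'.2.2 z.2.2)
        (Submodule.sub_mem _ z.1.2.1 z'.1.2.1)
      exact Prod.ext (Subtype.ext (sub_eq_zero.1 h2)) (Subtype.ext (sub_eq_zero.1 (h1 ▸ h2)).symm)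
  have hBcard : Nat.card ↥B = Nat.card ↥D * Nat.card ↥B1 := by
    rw [Subgroup.card_eq_card_quotient_mul_card_subgroup φ.ker,
      Nat.card_congr (QuotientGroup.quotientKerEquivRange φ).toEquiv, hB1,
      ← Nat.card_congr (Subgroup.equivMapOfInjective φ.ker B.subtype B.subtype_injective).toEquiv]
    rfl
  have hND : Nat.card ↥N ≤ 2 * Nat.card ↥D := by
    have h := hm B1 hB1le
    rw [wt, wt, card_eq_two_mul ha haN hind, hBcard] at h
    have h2 : Nat.card ↥B1 * (Nat.card ↥U' * Nat.card ↥Y) ≤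
        2 * (Nat.card ↥D * Nat.card ↥B1) * (Nat.card ↥U' * Nat.card ↥N) :=
      le_trans (Nat.mul_le_mul_left _ hB1fix) (h.trans (Nat.mul_le_mul_left _ hAfix))
    rw [hYcard] at h2
    refine Nat.le_of_mul_le_mul_left ?_
      (Nat.mul_pos (Nat.mul_pos (Nat.card_pos : 0 < Nat.card ↥B1) (Nat.card_pos : 0 < Nat.card ↥U'))
        (Nat.card_pos : 0 < Nat.card ↥N))
    linarith only [h2]
  have hN4 : Nat.card ↥N = 4 := by
    have h1 : 2 ≤ Nat.card ↥(LinearMap.range Am) := Finite.one_lt_card_iff_nontrivial.2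
      ((Submodule.nontrivial_iff_ne_bot).2 fun h => hA0 (LinearMap.range_eq_bot.1 h))
    have h2 : 2 ≤ Nat.card ↥(LinearMap.ker Am) :=
      Finite.one_lt_card_iff_nontrivial.2 ((Submodule.nontrivial_iff_ne_bot).2 hAker)
    have h3 := Nat.mul_le_mul h1 h2
    have h4 := Nat.mul_le_mul hD1 hD2
    have h5 := Nat.mul_le_mul hND hND
    rw [← hNfac] at h3 h4
    nlinarith
  have hY16 : Nat.card ↥Y = 16 := by rw [hYcard, hN4]
  -- the final count
  obtain ⟨r, hr, hr5, x, hx, hxc, e, he⟩ := exists_big_prime c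
  haveI := Fact.mk hr
  have hxodd : OddNC ρ K x :=
    ⟨hx, hxc, r ^ e, (hr.odd_of_ne_two (by omega)).pow, he⟩
  have hxρ : ρ x ^ r ^ e = 1 := by rw [← map_pow, he, map_one]
  have hxY : ∀ y ∈ Y, ρ x y ∈ Y := fun y hy => mV_inv c hT ha haN hk (Or.inr hx) hy
  have hxfix : ∀ y ∈ Y, ρ x y = y → y = 0 := fun y hy h => by
    refine tr_inj c hT ha haN hxodd hy ?_
    have h' : ρ x⁻¹ y = y := by conv_lhs => rw [← h, rho_inv_apply]
    rw [tr_apply, h, h', add_selfV]
  have hr15 : r = 5 := by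
    have h := card_modEq hxρ Y hxY hxfix
    rw [hY16] at h
    have h15 : r ∣ 15 := (Nat.modEq_iff_dvd' (by norm_num)).1 h.symm
    have : r ∈ Nat.divisors 15 := Nat.mem_divisors.2 ⟨h15, by norm_num⟩
    rw [show Nat.divisors 15 = {1, 3, 5, 15} by decide] at this
    simp only [Finset.mem_insert, Finset.mem_singleton] at this
    rcases this with rfl | rfl | rfl | rfl
    · omega
    · omega
    · rfl
    · exact absurd hr (by decide)
  subst hr15
  set x' := a * x * a⁻¹ with hx'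
  have hxx : Commute x x' := (c.comm a ha haN x hx x hx).symm
  have hcl : ∀ (i : Subgroup.zpowers x) (j : Subgroup.zpowers x'), Commute (i : G) (j : G) := by
    rintro ⟨_, i, rfl⟩ ⟨_, j, rfl⟩; exact (hxx.zpow_zpow i j)
  let f : ↥(Subgroup.zpowers x) × ↥(Subgroup.zpowers x') →* G :=
    (Subgroup.zpowers x).subtype.noncommCoprod (Subgroup.zpowers x').subtype hcl
  have hx'e : x' ^ 5 ^ e = 1 := by rw [hx', conj_pow, he]; group
  have hRp : ∀ g ∈ f.range, g ^ 5 ^ e = 1 := by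
    rintro _ ⟨⟨⟨_, i, rfl⟩, ⟨_, j, rfl⟩⟩, rfl⟩
    show (x ^ i * x' ^ j) ^ 5 ^ e = 1
    have h1 : ∀ (z : G), z ^ 5 ^ e = 1 → ∀ n : ℤ, (z ^ n) ^ 5 ^ e = 1 := fun z hz n => by
      rw [← zpow_natCast, ← zpow_mul, mul_comm, zpow_mul, zpow_natCast, hz, one_zpow]
    rw [(hxx.zpow_zpow i j).mul_pow, h1 x he, h1 x' hx'e, one_mul]
  have hxR : x ∈ f.range := ⟨(⟨x, Subgroup.mem_zpowers x⟩, 1), by
    show x * ((1 : ↥(Subgroup.zpowers x')) : G) = x
    rw [Subgroup.coe_one, mul_one]⟩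
  have hx'R : x' ∈ f.range := ⟨(1, ⟨x', Subgroup.mem_zpowers x'⟩), by
    show ((1 : ↥(Subgroup.zpowers x)) : G) * x' = x'
    rw [Subgroup.coe_one, one_mul]⟩
  have hRU : ∀ g ∈ f.range, ∀ u ∈ cV ρ K, ρ g u = u := by
    intro g hg
    have hS : f.range ≤
        { carrier := {g | ∀ u ∈ cV ρ K, ρ g u = u}
          one_mem' := fun u _ => by rw [map_one]; rfl
          mul_mem' := fun {g h} hg hh u hu => by rw [map_mul, Module.End.mul_apply, hh u hu, hg u hu]
          inv_mem' := fun {g} hg u hu => by conv_lhs => rw [← hg u hu, rho_inv_apply] } := by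
      rw [show f.range = Subgroup.zpowers x ⊔ Subgroup.zpowers x' from
        (MonoidHom.noncommCoprod_range _ _ _).trans (by rw [Subgroup.range_subtype, Subgroup.range_subtype])]
      refine sup_le ((Subgroup.zpowers_le).2 fun u hu => hu x hx) ((Subgroup.zpowers_le).2 fun u hu => ?_)
      rw [hx', map_mul, map_mul, Module.End.mul_apply, Module.End.mul_apply,
        (cV_inv c hT ha haN hk (Or.inl (inv_mem ha)) hu) x hx, rho_apply_inv]
    exact hS hg
  have hRx : ∀ g ∈ f.range, Commute x g := by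
    rintro _ ⟨⟨⟨_, i, rfl⟩, ⟨_, j, rfl⟩⟩, rfl⟩
    exact (Commute.self_zpow x i).mul_right (hxx.zpow_right j)
  have hRY : ∀ g ∈ f.range, ∀ y ∈ Y, ρ g y ∈ Y := by
    intro g hg y hy
    have hS : f.range ≤
        { carrier := {g | ∀ y : V, y ∈ Y ↔ ρ g y ∈ Y}
          one_mem' := fun y => by rw [map_one]; rfl
          mul_mem' := fun {g h} hg hh y => by rw [map_mul, Module.End.mul_apply, ← hg, ← hh]
          inv_mem' := fun {g} hg y => by rw [hg (ρ g⁻¹ y), rho_apply_inv] } := by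
      rw [show f.range = Subgroup.zpowers x ⊔ Subgroup.zpowers x' from
        (MonoidHom.noncommCoprod_range _ _ _).trans (by rw [Subgroup.range_subtype, Subgroup.range_subtype])]
      have hmv : ∀ g, (g ∈ A ∨ g ∈ K) → ∀ y, y ∈ Y ↔ ρ g y ∈ Y := fun g hg y =>
        ⟨mV_inv c hT ha haN hk hg, fun h => by
          have := mV_inv c hT ha haN hk (hg.imp inv_mem inv_mem) h
          rwa [rho_inv_apply] at this⟩
      refine sup_le ((Subgroup.zpowers_le).2 (hmv x (Or.inr hx))) ((Subgroup.zpowers_le).2 fun y => ?_)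
      rw [hx', map_mul, map_mul, Module.End.mul_apply, Module.End.mul_apply,
        ← hmv a (Or.inl ha), ← hmv x (Or.inr hx), ← hmv a⁻¹ (Or.inl (inv_mem ha))]
    exact (hS hg y).1 hy
  have hfree : ∀ g ∈ f.range, ∀ y ∈ Y, y ≠ 0 → ρ g y = y → ρ g = 1 := by
    intro g hg y hy hy0 hgy
    set F := Y ⊓ LinearMap.ker (ρ g - 1) with hF
    have hFx : ∀ v ∈ F, ρ x v ∈ F := fun v hv => ⟨hxY v hv.1, by
      have h2 : ρ g v - v = 0 := hv.2
      show ρ g (ρ x v) - ρ x v = 0
      rw [← Module.End.mul_apply, ← ((hRx g hg).map ρ).eq, Module.End.mul_apply, sub_eq_zero.1 h2,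
        sub_self]⟩
    have h := card_modEq hxρ F hFx fun v hv => hxfix v hv.1
    obtain ⟨i, hi⟩ := card_pow_two F
    have hFle : Nat.card ↥F ≤ 16 := hY16 ▸ Nat.card_mono (Set.toFinite _) inf_le_left
    have hF2 : 2 ≤ Nat.card ↥F := Finite.one_lt_card_iff_nontrivial.2
      ((Submodule.nontrivial_iff_ne_bot).2 fun hb0 => hy0
        ((Submodule.mem_bot (ZMod 2)).1 (hb0 ▸ (⟨hy, show ρ g y - y = 0 by rw [hgy, sub_self]⟩ : y ∈ F))))
    have hi4 : i ≤ 4 := by
      by_contra hlt; push Not at hlt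
      have := Nat.pow_le_pow_right (show 1 ≤ 2 by norm_num) hlt
      omega
    have hF16 : Nat.card ↥F = 16 := by
      rw [hi] at h hF2 ⊢
      interval_cases i <;> revert h hF2 <;> decide
    have hFY : F = Y := SetLike.coe_injective (Set.eq_of_subset_of_ncard_le inf_le_left
      (by rw [← Nat.card_coe_set_eq, ← Nat.card_coe_set_eq]; exact le_of_eq (hY16.trans hF16.symm)))
    refine LinearMap.ext fun v => ?_
    obtain ⟨u, hu, z, hz, rfl⟩ := exists_split c hT ha haN hk v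
    have hz2 : z ∈ F := by rw [hFY]; exact hz
    have hz3 : ρ g z - z = 0 := hz2.2
    rw [map_add, hRU g hg u hu, sub_eq_zero.1 hz3]; rfl
  let R := f.range
  let Z : Subgroup ↥R := MonoidHom.ker (ρ.comp R.subtype)
  obtain ⟨y₀, hy₀, hy₀0⟩ := (Submodule.ne_bot_iff Y).1 fun h => by
    rw [h, Nat.card_unique] at hY16; omega
  have hcardQ : Nat.card (↥R ⧸ Z) ≤ 15 := by
    let o : ↥R ⧸ Z → {z : ↥Y // z ≠ 0} := Quotient.lift
      (fun g => ⟨⟨ρ (g : G) y₀, hRY g g.2 y₀ hy₀⟩, fun h => hy₀0 (by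
        have h' : ρ (g : G) y₀ = 0 := congrArg Subtype.val h
        rw [← rho_inv_apply (ρ := ρ) (g : G) y₀, h', map_zero])⟩)
      (fun g g' h => by
        replace h : g⁻¹ * g' ∈ Z := QuotientGroup.leftRel_apply.1 h
        have h' : ρ ((g⁻¹ * g' : ↥R) : G) = 1 := h
        apply Subtype.ext; apply Subtype.ext
        show ρ (g : G) y₀ = ρ (g' : G) y₀
        have h2 := congrArg (fun F => ρ (g : G) (F y₀)) h'
        simp only [Module.End.one_apply, ← Module.End.mul_apply, ← map_mul, Subgroup.coe_mul,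
          Subgroup.coe_inv, mul_inv_cancel_left] at h2
        exact h2.symm)
    have ho : Function.Injective o := by
      intro g g'
      induction g using QuotientGroup.induction_on with
      | H g =>
        induction g' using QuotientGroup.induction_on with
        | H g' =>
          intro h
          rw [QuotientGroup.eq]
          show ρ ((g⁻¹ * g' : ↥R) : G) = 1
          refine hfree _ (g⁻¹ * g').2 y₀ hy₀ hy₀0 ?_
          have h' : ρ (g : G) y₀ = ρ (g' : G) y₀ := congrArg (fun z => ((z.1 : ↥Y) : V)) h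
          rw [Subgroup.coe_mul, Subgroup.coe_inv, map_mul, Module.End.mul_apply, ← h', rho_inv_apply]
    refine (Nat.card_le_card_of_injective o ho).trans ?_
    have h1 := Finite.card_subtype_lt (p := fun z : ↥Y => z ≠ 0) (x := 0) (by simp)
    rw [hY16] at h1
    omega
  have hQp : IsPGroup 5 (↥R ⧸ Z) :=
    (show IsPGroup 5 ↥R from fun g => ⟨e, Subtype.ext (hRp g g.2)⟩).to_quotient Z
  obtain ⟨i, hi⟩ := IsPGroup.iff_card.1 hQp
  set qx : ↥R ⧸ Z := QuotientGroup.mk ⟨x, hxR⟩ with hqx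
  set qx' : ↥R ⧸ Z := QuotientGroup.mk ⟨x', hx'R⟩ with hqx'
  have hqx'1 : qx' ≠ 1 := fun h => hxc fun t ht => by
    have h' : ρ x' = 1 := (QuotientGroup.eq_one_iff _).1 h
    have h2 : ρ x = 1 := by
      rw [show x = a⁻¹ * x' * a by rw [hx']; group, map_mul, map_mul, h', mul_one, rho_inv_mul]
    rw [h2]; exact Commute.one_left _
  have hi1 : Nat.card (↥R ⧸ Z) = 5 := by
    haveI : Nontrivial (↥R ⧸ Z) := ⟨⟨qx', 1, hqx'1⟩⟩
    have h2 : 1 < 5 ^ i := hi ▸ Finite.one_lt_card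
    have h3 : 5 ^ i ≤ 15 := hi ▸ hcardQ
    rw [hi]
    rcases i with _ | _ | i
    · omega
    · rfl
    · have := Nat.pow_le_pow_right (show 1 ≤ 5 by norm_num) (show 2 ≤ i + 1 + 1 by omega)
      omega
  haveI : Fact (Nat.Prime 5) := ⟨by norm_num⟩
  obtain ⟨n, hn⟩ := Subgroup.mem_zpowers_iff.1 (mem_zpowers_of_prime_card hi1 hqx'1 : qx ∈ Subgroup.zpowers qx')
  refine hxc fun t ht => ?_
  rw [hqx, hqx', ← QuotientGroup.mk_zpow, QuotientGroup.eq] at hn
  have h' : ρ ((x' ^ n)⁻¹ * x) = 1 := hn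
  have hxρ' : ρ x = ρ (x' ^ n) := by
    have h2 := congrArg (fun F => ρ (x' ^ n) * F) h'
    simp only [← map_mul, mul_inv_cancel_left, mul_one] at h2
    exact h2
  rw [hxρ']
  exact ((c.comm a ha haN x hx t ht).zpow_left n).map ρ

end endgame

end CfsgLib.PGV
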