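import Cfsg.Agent.Lib.PGV.Replacement
import Cfsg.Agent.S0144

/-!
Elements of order prime to `p`, and linear combinations of commuting ones.
-/

set_option autoImplicit false
set_option linter.style.haveILetI false

namespace CfsgLib.PGV

variable {p : ℕ} [Fact p.Prime] {G V : Type*} [Group G] [AddCommGroup V] [Module (ZMod p) V]
variable {ρ : Representation (ZMod p) G V} {A K : Subgroup G}

theorem charP_end [Nontrivial V] : CharP (Module.End (ZMod p) V) p :=
  charP_of_injective_algebraMap (FaithfulSMul.algebraMap_injective (ZMod p) _) p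

theorem nontrivial_V (c : Cfg p ρ A K) : Nontrivial V := by
  by_contra h
  rw [not_nontrivial_iff_subsingleton] at h
  obtain ⟨g, -, hg⟩ := c.nt
  exact hg (LinearMap.ext fun v => Subsingleton.elim _ _)

theorem exists_q {n : ℕ} (hn : n.Coprime p) : ∃ m : ℕ, 1 ≤ m ∧ ∀ {M : Type _} [Monoid M] (x : M),
    x ^ n = 1 → x ^ p ^ m = x := by
  have hp := (Fact.out : p.Prime)
  have hn0 : 0 < n := by
    rcases Nat.eq_zero_or_pos n with h | h
    · subst h; rw [Nat.coprime_zero_left] at hn; exact absurd hn hp.one_lt.ne'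
    · exact h
  refine ⟨n.totient, Nat.totient_pos.2 hn0, fun {M} _ x hx => ?_⟩
  have h := Nat.ModEq.pow_totient hn.symm
  have h1 : orderOf x ∣ n := orderOf_dvd_of_pow_eq_one hx
  have h2 : p ^ n.totient % orderOf x = 1 % orderOf x := h.of_dvd h1
  rw [← pow_mod_orderOf x (p ^ n.totient), h2, pow_mod_orderOf, pow_one]

theorem sq_mul_cancel {R : Type*} [Ring R] {X Y : R} {q : ℕ} (hq : 2 ≤ q) (hX : X ^ q = X)
    (h : X * X * Y = 0) : X * Y = 0 := by
  rw [← hX, show q = (q - 2) + 2 by omega, pow_add, sq, mul_assoc, h, mul_zero]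

theorem sub_pow_q [Nontrivial V] {x y : Module.End (ZMod p) V} {m : ℕ} (h : Commute x y)
    (hx : x ^ p ^ m = x) (hy : y ^ p ^ m = y) : (x - y) ^ p ^ m = x - y := by
  haveI := charP_end (p := p) (V := V)
  rw [sub_pow_char_pow_of_commute p m h, hx, hy]

theorem sum_pow_q [Nontrivial V] {ι : Type*} (s : Finset ι) (x : ι → Module.End (ZMod p) V) {m : ℕ}
    (h : ∀ i j, Commute (x i) (x j)) (hx : ∀ i, x i ^ p ^ m = x i) :
    (∑ i ∈ s, x i) ^ p ^ m = ∑ i ∈ s, x i := by
  classical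
  haveI := charP_end (p := p) (V := V)
  induction s using Finset.induction_on with
  | empty => rw [Finset.sum_empty, zero_pow (pow_ne_zero _ (Fact.out : p.Prime).ne_zero)]
  | insert i s hi ih =>
    rw [Finset.sum_insert hi, add_pow_char_pow_of_commute (p := p) (n := m)
      (Commute.sum_right _ _ _ fun j _ => h i j), hx, ih]

theorem two_le_pow {m : ℕ} (hm : 1 ≤ m) : 2 ≤ p ^ m :=
  le_trans (Fact.out : p.Prime).two_le (Nat.le_self_pow (by omega) _)

section exists_noncentral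

variable [Finite G]

/-- The elements of `K` centralising `ρ K`, inside `K`. -/
def cenIn (ρ : Representation (ZMod p) G V) (K : Subgroup G) : Subgroup ↥K :=
  (cenSubgroup ρ K).subgroupOf K

omit [Fact p.Prime] [Finite G] in
instance cenIn_normal (ρ : Representation (ZMod p) G V) (K : Subgroup G) : (cenIn ρ K).Normal := by
  refine ⟨fun x hx g => ?_⟩
  have hx' : Cen ρ K (x : G) := Subgroup.mem_subgroupOf.1 hx
  rw [cenIn, Subgroup.mem_subgroupOf, mem_cenSubgroup, Subgroup.coe_mul, Subgroup.coe_mul,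
    Subgroup.coe_inv]
  exact cen_conj (Subgroup.le_normalizer g.2) hx'

/-- A prime dividing the order of the image of `K` gives a noncentral element of that prime-power order. -/
theorem exists_of_dvd (r : ℕ) [hr : Fact r.Prime] (h : r ∣ Nat.card (↥K ⧸ cenIn ρ K)) :
    ∃ k ∈ K, ¬ Cen ρ K k ∧ ∃ e : ℕ, k ^ r ^ e = 1 := by
  obtain ⟨x, hx⟩ := exists_prime_orderOf_dvd_card' r h
  obtain ⟨t, rfl⟩ := QuotientGroup.mk_surjective x
  obtain ⟨e, m, hm, hn⟩ := Nat.exists_eq_pow_mul_and_not_dvd (orderOf_pos t).ne' r hr.out.ne_one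
  refine ⟨((t ^ m : ↥K) : G), (t ^ m).2, fun hc => hm ?_, e, ?_⟩
  · have h1 : (QuotientGroup.mk t : ↥K ⧸ cenIn ρ K) ^ m = 1 := by
      rw [← QuotientGroup.mk_pow, QuotientGroup.eq_one_iff]
      exact Subgroup.mem_subgroupOf.2 hc
    rw [← orderOf_dvd_iff_pow_eq_one, hx] at h1
    exact h1
  · rw [← Subgroup.coe_pow, ← pow_mul, mul_comm, ← hn, pow_orderOf_eq_one, Subgroup.coe_one]

theorem quot_not_solvable (c : Cfg p ρ A K) : ¬ Group.IsSolvable (↥K ⧸ cenIn ρ K) := by
  intro h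
  haveI : Group.IsPerfect ↥K := Subgroup.isPerfect_iff.2 c.perfect
  haveI := h
  haveI : Nontrivial (↥K ⧸ cenIn ρ K) := by
    by_contra hn
    rw [not_nontrivial_iff_subsingleton] at hn
    refine cfg_triv c fun x hx => ?_
    have h1 : ((⟨x, hx⟩ : ↥K) : ↥K ⧸ cenIn ρ K) = 1 := Subsingleton.elim _ _
    exact Subgroup.mem_subgroupOf.1 ((QuotientGroup.eq_one_iff (N := cenIn ρ K) _).1 h1)
  have h1 : commutator (↥K ⧸ cenIn ρ K) = ⊤ := by
    have h2 : commutator ↥K = ⊤ := Group.IsPerfect.commutator_eq_top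
    rw [commutator_def, ← Subgroup.map_top_of_surjective _ (QuotientGroup.mk'_surjective (cenIn ρ K)),
      ← Subgroup.map_commutator, ← commutator_def, h2]
  exact (Group.IsSolvable.commutator_lt_top_of_nontrivial (↥K ⧸ cenIn ρ K)).ne h1

/-- A noncentral element of `K` of order prime to `p`. -/
theorem exists_coprime_noncentral (c : Cfg p ρ A K) :
    ∃ k ∈ K, ¬ Cen ρ K k ∧ (orderOf k).Coprime p := by
  classical
  have hns := quot_not_solvable c
  obtain ⟨r, hr, hrd, hrp⟩ : ∃ r : ℕ, r.Prime ∧ r ∣ Nat.card (↥K ⧸ cenIn ρ K) ∧ r ≠ p := by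
    by_contra hcon
    push Not at hcon
    apply hns
    haveI : IsPGroup p (↥K ⧸ cenIn ρ K) := IsPGroup.of_card
      (Nat.eq_prime_pow_of_unique_prime_dvd Nat.card_pos.ne' fun {d} hd hdd => hcon d hd hdd)
    haveI := ‹IsPGroup p (↥K ⧸ cenIn ρ K)›.isNilpotent
    infer_instance
  haveI := Fact.mk hr
  obtain ⟨k, hk, hkc, e, he⟩ := exists_of_dvd r hrd
  exact ⟨k, hk, hkc, Nat.Coprime.coprime_dvd_left (orderOf_dvd_of_pow_eq_one he)
    (Nat.Coprime.pow_left e ((Nat.coprime_primes hr Fact.out).2 hrp))⟩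

/-- A noncentral element of order a power of a prime `r ≥ 5`. -/
theorem exists_big_prime (c : Cfg p ρ A K) :
    ∃ r : ℕ, r.Prime ∧ 5 ≤ r ∧ ∃ k ∈ K, ¬ Cen ρ K k ∧ ∃ e : ℕ, k ^ r ^ e = 1 := by
  classical
  have hns := quot_not_solvable c
  obtain ⟨r, hr, hr5, hrd⟩ : ∃ r : ℕ, r.Prime ∧ 5 ≤ r ∧ r ∣ Nat.card (↥K ⧸ cenIn ρ K) := by
    by_contra hcon
    push Not at hcon
    apply hns
    obtain ⟨a, m, hm, hn⟩ := Nat.exists_eq_pow_mul_and_not_dvd
      (Nat.card_pos (α := ↥K ⧸ cenIn ρ K)).ne' 2 (by norm_num)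
    have hm3 : ∀ {d : ℕ}, d.Prime → d ∣ m → d = 3 := fun {d} hd hdm => by
      have h1 : d ∣ Nat.card (↥K ⧸ cenIn ρ K) := by rw [hn]; exact hdm.mul_left _
      rcases lt_or_ge d 5 with h | h
      · interval_cases d
        · exact absurd hd (by decide)
        · exact absurd hd (by decide)
        · exact absurd hdm hm
        · rfl
        · exact absurd hd (by decide)
      · exact absurd h1 (hcon d hd h)
    have hm0 : m ≠ 0 := fun h => hm (h ▸ dvd_zero 2)
    refine Cfsg.Agent.S0144.result 2 3 a m.primeFactorsList.length Nat.prime_two Nat.prime_three ?_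
    rw [hn, ← Nat.eq_prime_pow_of_unique_prime_dvd hm0 hm3]
  haveI := Fact.mk hr
  exact ⟨r, hr, hr5, exists_of_dvd r hrd⟩

end exists_noncentral

end CfsgLib.PGV
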