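import Cfsg.Agent.Lib.PGV.Count

/-!
`A` normalises `K`: the induction.
-/

set_option autoImplicit false
set_option linter.style.haveILetI false

namespace CfsgLib.PGV

universe u v

variable {p : ℕ} [hp : Fact p.Prime] {G : Type u} {V : Type v} [Group G] [Finite G] [AddCommGroup V]
  [Module (ZMod p) V] [Finite V]
variable {ρ : Representation (ZMod p) G V} {A K : Subgroup G}

omit [Finite G] [Finite V] in
theorem Cfg.mono (c : Cfg p ρ A K) {A' : Subgroup G} (h : A' ≤ A) : Cfg p ρ A' K :=
  ⟨fun a ha d hd => c.commA a (h ha) d (h hd), fun a ha => c.powA a (h ha), c.perfect, c.qs,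
    fun a ha => c.comm a (h ha), c.nt⟩

omit [Finite G] [Finite V] in
theorem Cfg.isPGroup (c : Cfg p ρ A K) : IsPGroup p ↥A := fun a =>
  ⟨1, Subtype.ext (by rw [pow_one, SubmonoidClass.coe_pow]; exact c.powA a a.2)⟩

omit [Finite V] in
theorem zpowers_orb (c : Cfg p ρ A K) {a : G} (ha : a ∈ A)
    (haN : a ∉ Subgroup.normalizer (K : Set G)) :
    Orb A K (Subgroup.zpowers a) ∧ Nat.card ↥(Subgroup.zpowers a) = p := by
  have hane : a ≠ 1 := fun h => haN (h ▸ one_mem _)
  have hord : orderOf a = p := orderOf_eq_prime (c.powA a ha) hane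
  refine ⟨⟨(Subgroup.zpowers_le).2 ha, fun l hl hlN => ?_⟩, by rw [Nat.card_zpowers, hord]⟩
  by_contra hl1
  have hcard : Nat.card ↥(Subgroup.zpowers a) = p := by rw [Nat.card_zpowers, hord]
  have h := mem_zpowers_of_prime_card (G := ↥(Subgroup.zpowers a)) (g := ⟨l, hl⟩)
    (g' := ⟨a, Subgroup.mem_zpowers a⟩) hcard (fun h => hl1 (congrArg Subtype.val h))
  obtain ⟨n, hn⟩ := Subgroup.mem_zpowers_iff.1 h
  exact haN (by
    have hn' : l ^ n = a := congrArg Subtype.val hn
    rw [← hn']; exact zpow_mem hlN n)

omit [Finite G] [Finite V] in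
theorem mem_four (c : Cfg p ρ A K) (hp2 : p = 2) {a d : G} (ha : a ∈ A) (hd : d ∈ A) {l : G}
    (hl : l ∈ Subgroup.zpowers a ⊔ Subgroup.zpowers d) : l = 1 ∨ l = a ∨ l = d ∨ l = a * d := by
  subst hp2
  have hS : Subgroup.zpowers a ⊔ Subgroup.zpowers d ≤
      { carrier := {g | g = 1 ∨ g = a ∨ g = d ∨ g = a * d}
        one_mem' := Or.inl rfl
        mul_mem' := by
          have haa : a * a = 1 := by rw [← sq]; exact c.powA a ha
          have hdd : d * d = 1 := by rw [← sq]; exact c.powA d hd
          have hda : d * a = a * d := c.commA d hd a ha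
          have h1 : d * (a * d) = a := by rw [← mul_assoc, hda, mul_assoc, hdd, mul_one]
          have h2 : a * (a * d) = d := by rw [← mul_assoc, haa, one_mul]
          have h3 : a * d * a = d := by rw [mul_assoc, hda, h2]
          have h4 : a * d * d = a := by rw [mul_assoc, hdd, mul_one]
          have h5 : a * d * (a * d) = 1 := by rw [mul_assoc, h1, haa]
          rintro x y (rfl | rfl | rfl | rfl) (rfl | rfl | rfl | rfl) <;>
            simp [haa, hdd, hda, h1, h2, h3, h4, h5]
        inv_mem' := by
          rintro x (rfl | rfl | rfl | rfl)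
          · simp
          · exact Or.inr (Or.inl (inv_eq_selfA c ha))
          · exact Or.inr (Or.inr (Or.inl (inv_eq_selfA c hd)))
          · exact Or.inr (Or.inr (Or.inr (inv_eq_selfA c (mul_mem ha hd)))) } :=
    sup_le ((Subgroup.zpowers_le).2 (Or.inr (Or.inl rfl)))
      ((Subgroup.zpowers_le).2 (Or.inr (Or.inr (Or.inl rfl))))
  exact hS hl

/-- `C_A([V, A]) ≤ N(K)`, given the statement for it: the quadratic case. -/
theorem quad_case (c : Cfg p ρ A K) (hm : IsMax ρ A)
    (hq : ∀ x ∈ A, ∀ y ∈ A, (ρ x - 1) * (ρ y - 1) = 0) {a : G} (ha : a ∈ A)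
    (haN : a ∉ Subgroup.normalizer (K : Set G)) : False := by
  classical
  haveI := nontrivial_V c
  haveI := charP_end (p := p) (V := V)
  rcases eq_or_ne p 2 with hp2 | hp2
  · -- the index of `N_A(K)` is two
    have hind : ∀ x ∈ A, ∀ y ∈ A, x ∉ Subgroup.normalizer (K : Set G) →
        y ∉ Subgroup.normalizer (K : Set G) → x * y ∈ Subgroup.normalizer (K : Set G) := by
      intro x hx y hy hxN hyN
      by_contra hxy
      set L := Subgroup.zpowers x ⊔ Subgroup.zpowers y
      have hmem := fun {l : G} (hl : l ∈ L) => mem_four c hp2 hx hy hl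
      have o : Orb A K L := ⟨sup_le ((Subgroup.zpowers_le).2 hx) ((Subgroup.zpowers_le).2 hy),
        fun l hl hlN => by
          rcases hmem hl with h | h | h | h
          · exact h
          · exact absurd (h ▸ hlN) hxN
          · exact absurd (h ▸ hlN) hyN
          · exact absurd (h ▸ hlN) hxy⟩
      have hxne : x ≠ 1 := fun h => hxN (h ▸ one_mem _)
      have hyne : y ≠ 1 := fun h => hyN (h ▸ one_mem _)
      have hxyne : x * y ≠ 1 := fun h => hxy (h ▸ one_mem _)
      have hxy' : x ≠ y := by
        rintro rfl
        subst hp2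
        exact hxyne (by rw [← sq]; exact c.powA x hx)
      set S : Finset G := {1, x, y, x * y} with hS
      have hSL : ∀ l, l ∈ S ↔ l ∈ L := fun l => by
        simp only [hS, Finset.mem_insert, Finset.mem_singleton]
        refine ⟨?_, hmem⟩
        rintro (rfl | rfl | rfl | rfl)
        · exact one_mem _
        · exact Subgroup.mem_sup_left (Subgroup.mem_zpowers _)
        · exact Subgroup.mem_sup_right (Subgroup.mem_zpowers _)
        · exact mul_mem (Subgroup.mem_sup_left (Subgroup.mem_zpowers _))
            (Subgroup.mem_sup_right (Subgroup.mem_zpowers _))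
      have hScard : S.card = 4 := by
        rw [hS, Finset.card_insert_of_notMem, Finset.card_insert_of_notMem,
          Finset.card_insert_of_notMem, Finset.card_singleton]
        · simp [hxne]
        · simp [hxy', hyne]
        · simp [Ne.symm hxne, Ne.symm hyne, Ne.symm hxyne]
      have hLcard : Nat.card ↥L = 4 := by
        haveI := Fintype.ofFinite ↥L
        rw [Nat.card_eq_fintype_card, Fintype.card_of_subtype S hSL, hScard]
      refine quad_orbit_false c o (fun l hl m hm => hq l (o.le hl) m (o.le hm)) ?_
        (hp2 ▸ hLcard ▸ ⟨2, rfl⟩)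
      intro inst
      haveI : CharP (Module.End (ZMod p) V) 2 := by subst hp2; infer_instance
      have h2 : ∀ X : Module.End (ZMod p) V, X + X = 0 := fun X => by
        rw [← two_mul, show (2 : Module.End (ZMod p) V) = ((2 : ℕ) : Module.End (ZMod p) V) from
          (Nat.cast_ofNat).symm, CharP.cast_eq_zero, zero_mul]
      rw [← Finset.sum_subtype S hSL (fun l => ρ l - 1), hS, Finset.sum_insert, Finset.sum_insert,
        Finset.sum_insert, Finset.sum_singleton]
      · have e : ρ (x * y) - 1 = (ρ x - 1) + (ρ y - 1) := by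
          have h := hq x hx y hy
          rw [← sub_eq_zero, map_mul, ← h]; noncomm_ring
        rw [map_one, sub_self, zero_add, e, ← add_assoc, h2]
      · simp [hxne]
      · simp [hxy', hyne]
      · simp [Ne.symm hxne, Ne.symm hyne, Ne.symm hxyne]
    subst hp2
    by_cases hb : ∀ b ∈ A, b ∈ Subgroup.normalizer (K : Set G) → Cen ρ K b
    · exact centralised_false c hm ha haN hind hq hb
    · push Not at hb
      obtain ⟨b, hbA, hbN, hbc⟩ := hb
      have hT : TrInv ρ A K := fun d hd hdN g hg =>
        tr_eq_of_pair c hd hdN hbA hbN hbc (hq b hbA d hd) hg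
      obtain ⟨k, hk, hinv⟩ := exists_inverted c hbA hbN hbc
      exact endgame_false c hT ha haN hbA hk hinv (hq b hbA) hbN hm hind
  · obtain ⟨o, hcard⟩ := zpowers_orb c ha haN
    refine quad_orbit_false c o (fun l hl m hm => hq l (o.le hl) m (o.le hm)) ?_ (hcard ▸ dvd_rfl)
    intro inst
    set S := ∑ l : ↥(Subgroup.zpowers a), (ρ (l : G) - 1) with hS
    have h1 : S = -S := by
      conv_lhs => rw [hS, ← Equiv.sum_comp (Equiv.inv ↥(Subgroup.zpowers a)) (fun l : ↥(Subgroup.zpowers a) => ρ (l : G) - 1)]
      rw [hS, ← Finset.sum_neg_distrib]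
      refine Finset.sum_congr rfl fun l _ => ?_
      have h := hq (l : G) (o.le l.2) (l : G)⁻¹ (inv_mem (o.le l.2))
      show ρ ((l : G)⁻¹) - 1 = -(ρ (l : G) - 1)
      rw [sub_mul, mul_sub, rho_mul_inv, mul_one, one_mul] at h
      rw [← sub_eq_zero, sub_neg_eq_add]
      calc ρ ((l : G)⁻¹) - 1 + (ρ (l : G) - 1) = -(1 - ρ (l : G) - (ρ ((l : G)⁻¹) - 1)) := by abel
        _ = 0 := by rw [h, neg_zero]
    have h2 : (2 : ZMod p) • S = 0 := by
      rw [two_smul]
      nth_rewrite 2 [h1]
      exact add_neg_cancel S
    refine (smul_eq_zero.1 h2).resolve_left ?_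
    intro h
    have h3 : ((2 : ℕ) : ZMod p) = 0 := by exact_mod_cast h
    rw [ZMod.natCast_eq_zero_iff] at h3
    exact hp2 ((Nat.prime_dvd_prime_iff_eq hp.out Nat.prime_two).1 h3)

/-- The pair case. -/
theorem pair_case (c : Cfg p ρ A K) (hm : IsMax ρ A) {a : G} (ha : a ∈ A)
    (haN : a ∉ Subgroup.normalizer (K : Set G)) {b : G} (hbA : b ∈ A)
    (hbN : b ∈ Subgroup.normalizer (K : Set G)) (hbc : ¬ Cen ρ K b)
    (hpair : ∀ d ∈ A, (ρ b - 1) * (ρ d - 1) = 0) : False := by
  classical
  rcases eq_or_ne p 2 with hp2 | hp2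
  · have hind : ∀ x ∈ A, ∀ y ∈ A, x ∉ Subgroup.normalizer (K : Set G) →
        y ∉ Subgroup.normalizer (K : Set G) → x * y ∈ Subgroup.normalizer (K : Set G) := by
      intro x hx y hy hxN hyN
      by_contra hxy
      set L := Subgroup.zpowers x ⊔ Subgroup.zpowers y
      have o : Orb A K L := ⟨sup_le ((Subgroup.zpowers_le).2 hx) ((Subgroup.zpowers_le).2 hy),
        fun l hl hlN => by
          rcases mem_four c hp2 hx hy hl with h | h | h | h
          · exact h
          · exact absurd (h ▸ hlN) hxN
          · exact absurd (h ▸ hlN) hyN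
          · exact absurd (h ▸ hlN) hxy⟩
      have hxne : x ≠ 1 := fun h => hxN (h ▸ one_mem _)
      refine pair_orbit_false c o hbA hbN hbc (fun l hl => hpair l (o.le hl)) ?_
      have h3 : ({1, x, y} : Finset G).card = 3 := by
        rw [Finset.card_insert_of_notMem, Finset.card_pair]
        · rintro rfl
          subst hp2
          exact hxy (by rw [← sq, c.powA x hx]; exact one_mem _)
        · have hyne : y ≠ 1 := fun h => hyN (h ▸ one_mem _)
          simp [Ne.symm hxne, Ne.symm hyne]
      rw [← h3]
      refine le_of_eq_of_le (Nat.card_eq_finsetCard _).symm (Nat.card_mono (Set.toFinite (L : Set G)) ?_)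
      intro l hl
      simp only [Finset.coe_insert, Finset.coe_singleton, Set.mem_insert_iff, Set.mem_singleton_iff] at hl
      rcases hl with rfl | rfl | rfl
      · exact one_mem _
      · exact Subgroup.mem_sup_left (Subgroup.mem_zpowers _)
      · exact Subgroup.mem_sup_right (Subgroup.mem_zpowers _)
    subst hp2
    have hT : TrInv ρ A K := fun d hd hdN g hg =>
      tr_eq_of_pair c hd hdN hbA hbN hbc (hpair d hd) hg
    obtain ⟨k, hk, hinv⟩ := exists_inverted c hbA hbN hbc
    exact endgame_false c hT ha haN hbA hk hinv hpair hbN hm hind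
  · obtain ⟨o, hcard⟩ := zpowers_orb c ha haN
    exact pair_orbit_false c o hbA hbN hbc (fun l hl => hpair l (o.le hl))
      (by rw [hcard]; have := hp.out.two_le; omega)

omit [Finite G] [Finite V] in
/-- `[V, K]` operators: if `b` centralises `K` and is trivial on `[V, a]`, it is trivial on `(k - kᵃ)V`. -/
theorem diff_fixed (c : Cfg p ρ A K) {a b g : G} (ha : a ∈ A) (hg : g ∈ K) (hb : Cen ρ K b)
    (h : ∀ d ∈ A, (ρ b - 1) * (ρ d - 1) = 0) :
    (ρ b - 1) * (ρ g - ρ (a * g * a⁻¹)) = 0 := by
  have e : ∀ d ∈ A, (ρ b - 1) * ρ d = ρ b - 1 := fun d hd => by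
    rw [← sub_eq_zero]
    calc _ = (ρ b - 1) * (ρ d - 1) := by noncomm_ring
      _ = 0 := h d hd
  have hc : Commute (ρ b - 1) (ρ g) := (hb g hg).sub_left (Commute.one_left _)
  rw [mul_sub, map_mul, map_mul, ← mul_assoc, ← mul_assoc, e a ha, hc.eq, mul_assoc (ρ g),
    e a⁻¹ (inv_mem ha), sub_self]

theorem main : ∀ (n : ℕ) {G : Type u} {V : Type v} [Group G] [Finite G] [AddCommGroup V]
    [Module (ZMod p) V] [Finite V] {ρ : Representation (ZMod p) G V} {A K : Subgroup G},
    Nat.card V ≤ n → Cfg p ρ A K → IsMax ρ A → A ≤ Subgroup.normalizer (K : Set G) := by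
  intro n
  induction n with
  | zero =>
    intro G V _ _ _ _ _ ρ A K hn
    exact absurd hn (not_le.2 Nat.card_pos)
  | succ n ih =>
  intro G V _ _ _ _ _ ρ A K hn c hm a ha
  by_contra haN
  classical
  haveI := nontrivial_V c
  set A' := quadPart ρ c.commA with hA'
  have hA'le : A' ≤ A := quadPart_le c.commA
  by_cases h1 : A' ≤ Subgroup.normalizer (K : Set G)
  · by_cases h2 : ∀ b ∈ A', Cen ρ K b
    · -- recursion on `W = C_V(A')`
      set W := fix ρ A' with hW
      have hρa : ρ a ≠ 1 := fun h => by
        refine cfg_triv c fun x hx y hy => ?_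
        have e : ρ x = ρ (a * x * a⁻¹) := by
          rw [map_mul, map_mul, h, one_mul]
          have h' : ρ a⁻¹ = 1 := by
            calc ρ a⁻¹ = ρ a⁻¹ * ρ a := by rw [h, mul_one]
              _ = 1 := rho_inv_mul ρ a
          rw [h', mul_one]
        rw [e]; exact (c.comm a ha haN x hx y hy).map ρ
      obtain ⟨b, hb, hb1⟩ := quadPart_nontrivial c.commA c.isPGroup hm ha hρa
      have hlt : Nat.card ↥W < Nat.card V := by
        obtain ⟨v, hv⟩ : ∃ v, ρ b v ≠ v := by
          by_contra hcon; push Not at hcon
          exact hb1 (LinearMap.ext hcon)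
        exact Finite.card_subtype_lt (p := fun x : V => x ∈ W) (fun hvW => hv (hvW b hb))
      let H : Subgroup G :=
        { carrier := {g | ∀ v, v ∈ W ↔ ρ g v ∈ W}
          one_mem' := fun v => by rw [map_one]; rfl
          mul_mem' := fun {g h} hg hh v => by rw [map_mul, Module.End.mul_apply, ← hg, ← hh]
          inv_mem' := fun {g} hg v => by
            rw [hg (ρ g⁻¹ v), ← Module.End.mul_apply, rho_mul_inv, Module.End.one_apply] }
      have hin : ∀ g, (∀ b ∈ A', Commute (ρ g) (ρ b)) → g ∈ H := fun g hg v => by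
        refine ⟨fun hv b hb => ?_, fun hv b hb => ?_⟩
        · rw [← Module.End.mul_apply, ← (hg b hb).eq, Module.End.mul_apply, hv b hb]
        · have hinj : Function.Injective (ρ g) := fun x y hxy => by
            have h := congrArg (ρ g⁻¹) hxy
            rwa [← Module.End.mul_apply, ← Module.End.mul_apply, rho_inv_mul, Module.End.one_apply,
              Module.End.one_apply] at h
          apply hinj
          rw [← Module.End.mul_apply, (hg b hb).eq, Module.End.mul_apply, hv b hb]
      have hKH : K ≤ H := fun x hx => hin x fun b hb => ((h2 b hb x hx)).symm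
      have hAH : A ≤ H := fun d hd => hin d fun b hb => (c.commA d hd b (hA'le hb)).map ρ
      let σ : Representation (ZMod p) ↥H ↥W :=
        { toFun := fun g => (ρ (g : G)).restrict fun v hv => (g.2 v).1 hv
          map_one' := by ext v; show ρ ((1 : ↥H) : G) (v : V) = v; simp
          map_mul' := fun g h => by
            ext v; show ρ ((g * h : ↥H) : G) (v : V) = ρ (g : G) (ρ (h : G) v)
            rw [Subgroup.coe_mul, map_mul]; rfl }
      have himg : ∀ g ∈ K, ∀ v : V, ρ g v - ρ (a * g * a⁻¹) v ∈ W := fun g hg v b hb => by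
        have h := LinearMap.congr_fun (diff_fixed c ha hg (h2 b hb) fun d hd => quad_mul c.commA hb hd) v
        exact sub_eq_zero.1 h
      have c' : Cfg p σ (A.subgroupOf H) (K.subgroupOf H) :=
        { commA := fun x hx y hy => Subtype.ext (c.commA x hx y hy)
          powA := fun x hx => Subtype.ext (by rw [SubmonoidClass.coe_pow]; exact c.powA x hx)
          perfect := Subgroup.map_injective H.subtype_injective (by
            rw [Subgroup.map_commutator, Subgroup.map_subgroupOf_eq_of_le hKH, c.perfect])
          qs := fun S hS hn => by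
            have hS' : S.map H.subtype ≤ K := by rintro _ ⟨s, hs, rfl⟩; exact hS hs
            rcases c.qs (S.map H.subtype) hS' (by
              rintro x hx _ ⟨s, hs, rfl⟩
              exact ⟨_, hn ⟨x, hKH hx⟩ hx s hs, rfl⟩) with h | h
            · exact Or.inl (Subgroup.map_injective H.subtype_injective
                (by rw [h, Subgroup.map_subgroupOf_eq_of_le hKH]))
            · exact Or.inr fun s hs x hx => Subtype.ext (h _ ⟨s, hs, rfl⟩ x hx)
          comm := fun d hd hdN x hx y hy => Subtype.ext (c.comm d hd (fun hN => hdN (by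
              rw [Subgroup.mem_normalizer_iff] at hN ⊢
              intro z
              exact hN (z : G))) x hx y hy)
          nt := by
            by_contra hcon
            push Not at hcon
            have hW1 : ∀ g ∈ K, ∀ w ∈ W, ρ g w = w := fun g hg w hw =>
              congrArg Subtype.val (LinearMap.congr_fun (hcon ⟨g, hKH hg⟩ hg) ⟨w, hw⟩)
            let S : Subgroup G :=
              { carrier := {g | g ∈ K ∧ ∀ v, ρ g v - v ∈ W}
                one_mem' := ⟨one_mem K, fun v => by rw [map_one, Module.End.one_apply, sub_self]; exact W.zero_mem⟩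
                mul_mem' := fun {g h} hg hh => ⟨mul_mem hg.1 hh.1, fun v => by
                  rw [map_mul, Module.End.mul_apply, ← sub_add_sub_cancel _ (ρ h v)]
                  exact W.add_mem (hg.2 _) (hh.2 v)⟩
                inv_mem' := fun {g} hg => ⟨inv_mem hg.1, fun v => by
                  have h := hg.2 (ρ g⁻¹ v)
                  rw [← Module.End.mul_apply, rho_mul_inv, Module.End.one_apply] at h
                  rw [← neg_sub]; exact W.neg_mem h⟩ }
            have hle : ⁅K, K⁆ ≤ S := by
              rw [Subgroup.commutator_le]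
              intro g hg h hh
              refine ⟨Subgroup.commutator_le_self K (Subgroup.commutator_mem_commutator hg hh), fun v => ?_⟩
              rw [commutatorElement_def]
              set g' := a * g * a⁻¹
              have hc : Commute g' h := c.comm a ha haN g hg h hh
              set w := ρ (g⁻¹ * h⁻¹) v with hw
              have e1 : ρ (g * h * g⁻¹ * h⁻¹) v = ρ g (ρ h w) := by
                rw [hw, show g * h * g⁻¹ * h⁻¹ = g * (h * (g⁻¹ * h⁻¹)) by group, map_mul, map_mul]; rfl
              have e2 : v = ρ h (ρ g w) := by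
                rw [hw, ← Module.End.mul_apply, ← Module.End.mul_apply, ← map_mul, ← map_mul,
                  show h * g * (g⁻¹ * h⁻¹) = 1 by group, map_one, Module.End.one_apply]
              rw [e1]
              conv => arg 2; arg 2; rw [e2]
              have e3 : ρ g (ρ h w) - ρ h (ρ g w) =
                  (ρ g (ρ h w) - ρ g' (ρ h w)) - ρ h (ρ g w - ρ g' w) := by
                rw [map_sub, ← Module.End.mul_apply (ρ g'), (hc.map ρ).eq, Module.End.mul_apply]; abel
              rw [e3]
              refine W.sub_mem (himg g hg _) ?_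
              have := himg g hg w
              rw [hW1 h hh _ this]; exact this
            refine cfg_triv c fun x hx y hy => ?_
            have hxS := hle (c.perfect.symm ▸ hx : x ∈ ⁅K, K⁆)
            have hyS := hle (c.perfect.symm ▸ hy : y ∈ ⁅K, K⁆)
            refine LinearMap.ext fun v => ?_
            show ρ x (ρ y v) = ρ y (ρ x v)
            have e1 := hW1 x hx _ (hyS.2 v)
            have e2 := hW1 y hy _ (hxS.2 v)
            rw [map_sub, sub_eq_iff_eq_add] at e1 e2
            rw [e1, e2]; abel }
      have hm' : IsMax σ (A.subgroupOf H) := by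
        have efix : ∀ C : Subgroup G, C ≤ H → Nat.card ↥(fix σ (C.subgroupOf H)) = Nat.card ↥(fix ρ (C ⊔ A')) := by
          intro C hC
          refine Nat.card_congr
            { toFun := fun v => ⟨(v.1 : V), ?_⟩
              invFun := fun v => ⟨⟨v.1, fun b hb => v.2 b (Subgroup.mem_sup_right hb)⟩, ?_⟩
              left_inv := fun v => rfl
              right_inv := fun v => rfl }
          · refine mem_fix.2 fun g hg => ?_
            have hst : C ⊔ A' ≤
                { carrier := {g | ρ g (v.1 : V) = v.1}
                  one_mem' := by simp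
                  mul_mem' := fun {g h} (hg : ρ g _ = _) (hh : ρ h _ = _) => by
                    show ρ (g * h) _ = _
                    rw [map_mul, Module.End.mul_apply, hh, hg]
                  inv_mem' := fun {g} (hg : ρ g _ = _) => by
                    show ρ g⁻¹ _ = _
                    conv_lhs => rw [← hg, ← Module.End.mul_apply, rho_inv_mul, Module.End.one_apply] } :=
              sup_le (fun g hg => congrArg Subtype.val (v.2 ⟨g, hC hg⟩ hg)) fun g hg => v.1.2 g hg
            exact hst hg
          · exact mem_fix.2 fun g hg => Subtype.ext (v.2 g (Subgroup.mem_sup_left hg))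
        intro C hC
        set C₀ := C.map H.subtype with hC₀
        have hC₀A : C₀ ≤ A := by rintro _ ⟨x, hx, rfl⟩; exact hC hx
        have eC : C = C₀.subgroupOf H := (Subgroup.comap_map_eq_self_of_injective H.subtype_injective C).symm
        rw [wt, wt, eC, efix C₀ (hC₀A.trans hAH), efix A hAH, sup_eq_left.2 hA'le,
          Nat.card_congr (Subgroup.subgroupOfEquivOfLe hAH).toEquiv,
          Nat.card_congr (Subgroup.subgroupOfEquivOfLe (hC₀A.trans hAH)).toEquiv]
        refine le_trans (Nat.mul_le_mul_right _ (Nat.card_mono (Set.toFinite _) ?_)) (hm _ (sup_le hC₀A hA'le))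
        exact (le_sup_left : C₀ ≤ C₀ ⊔ A')
      have hN := ih (by omega) c' hm' (show (⟨a, hAH ha⟩ : ↥H) ∈ A.subgroupOf H from ha)
      apply haN
      rw [Subgroup.mem_normalizer_iff] at hN ⊢
      intro z
      refine ⟨fun hz => (hN ⟨z, hKH hz⟩).1 hz, fun hz => ?_⟩
      have hzH : z ∈ H := by
        have h := mul_mem (mul_mem (inv_mem (hAH ha)) (hKH hz)) (hAH ha)
        rwa [show a⁻¹ * (a * z * a⁻¹) * a = z by group] at h
      exact (hN ⟨z, hzH⟩).2 hz
    · push Not at h2
      obtain ⟨b, hb, hbc⟩ := h2
      exact pair_case c hm ha haN (hA'le hb) (h1 hb) hbc fun d hd => quad_mul c.commA hb hd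
  · obtain ⟨a', ha', ha'N⟩ := Set.not_subset.1 h1
    exact quad_case (c.mono hA'le) (isMax_quadPart c.commA hm)
      (fun x hx y hy => quad_mul c.commA hx (hA'le hy)) ha' ha'N

end CfsgLib.PGV
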