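import Cfsg.Agent.Lib.PGV.Elements

/-!
A group `L ≤ A` permuting `|L|` pairwise commuting conjugates of `K`.
-/

set_option autoImplicit false
set_option linter.style.haveILetI false

namespace CfsgLib.PGV

variable {p : ℕ} [Fact p.Prime] {G V : Type*} [Group G] [AddCommGroup V] [Module (ZMod p) V]
variable {ρ : Representation (ZMod p) G V} {A K L : Subgroup G}

/-- `L` lies in `A` and meets the normaliser of `K` trivially. -/
structure Orb (A K L : Subgroup G) : Prop where
  le : L ≤ A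
  trivial : ∀ l ∈ L, l ∈ Subgroup.normalizer (K : Set G) → l = 1

/-- Conjugation of `K` by `l`. -/
def slot (l : G) (K : Subgroup G) : ↥K →* G :=
  (MulAut.conj l).toMonoidHom.comp K.subtype

theorem slot_apply (l : G) (g : ↥K) : slot l K g = l * g * l⁻¹ := rfl

theorem slot_comm (c : Cfg p ρ A K) (o : Orb A K L) :
    Pairwise fun l m : ↥L => ∀ g h : ↥K, Commute (slot (l : G) K g) (slot (m : G) K h) := by
  intro l m hlm g h
  have hne : ((m : G))⁻¹ * (l : G) ∉ Subgroup.normalizer (K : Set G) := fun hn =>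
    hlm (Subtype.ext (inv_mul_eq_one.1
      (o.trivial _ (mul_mem (inv_mem m.2) l.2) hn)).symm)
  have h1 := c.comm _ (mul_mem (inv_mem (o.le m.2)) (o.le l.2)) hne g g.2 h h.2
  have h2 := h1.map (MulAut.conj (m : G)).toMonoidHom
  simp only [MulEquiv.coe_toMonoidHom, MulAut.conj_apply] at h2
  have e : slot (l : G) K g =
      (m : G) * ((m : G)⁻¹ * (l : G) * g * ((m : G)⁻¹ * (l : G))⁻¹) * (m : G)⁻¹ := by
    rw [slot_apply]; group
  rw [e]; exact h2

variable [Finite G]

/-- The product map of the conjugates. -/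
noncomputable def prodMap (c : Cfg p ρ A K) (o : Orb A K L) : (↥L → ↥K) →* G :=
  letI := Fintype.ofFinite ↥L
  MonoidHom.noncommPiCoprod (fun l : ↥L => slot (l : G) K) (slot_comm c o)

theorem prodMap_single [DecidableEq ↥L] (c : Cfg p ρ A K) (o : Orb A K L) (l : ↥L) (g : ↥K) :
    prodMap c o (Pi.mulSingle l g) = slot (l : G) K g := by
  letI := Fintype.ofFinite ↥L
  exact MonoidHom.noncommPiCoprod_mulSingle (fun l : ↥L => slot (l : G) K) l g

/-- The diagonal. -/
noncomputable def diag (c : Cfg p ρ A K) (o : Orb A K L) : ↥K →* G :=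
  (prodMap c o).comp (MonoidHom.pi fun _ : ↥L => MonoidHom.id ↥K)

theorem diag_eq (c : Cfg p ρ A K) (o : Orb A K L) (g : ↥K) :
    diag c o g = prodMap c o (fun _ => g) := rfl

theorem diag_comm (c : Cfg p ρ A K) (o : Orb A K L) {l₀ : G} (hl₀ : l₀ ∈ L) (g : ↥K) :
    Commute l₀ (diag c o g) := by
  classical
  letI := Fintype.ofFinite ↥L
  let sh : (↥L → ↥K) →* (↥L → ↥K) :=
    MonoidHom.pi fun i => Pi.evalMonoidHom (fun _ : ↥L => ↥K) ((⟨l₀, hl₀⟩ : ↥L)⁻¹ * i)
  have h : ((MulAut.conj l₀).toMonoidHom.comp (prodMap c o)) = (prodMap c o).comp sh := by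
    refine MonoidHom.pi_ext fun i x => ?_
    have e : sh (Pi.mulSingle i x) = Pi.mulSingle (⟨l₀, hl₀⟩ * i) x := by
      funext j
      show Pi.mulSingle (M := fun _ => ↥K) i x ((⟨l₀, hl₀⟩ : ↥L)⁻¹ * j) =
        Pi.mulSingle (M := fun _ => ↥K) ((⟨l₀, hl₀⟩ : ↥L) * i) x j
      rw [Pi.mulSingle_apply, Pi.mulSingle_apply]
      simp only [inv_mul_eq_iff_eq_mul]
    rw [MonoidHom.comp_apply, MonoidHom.comp_apply, e, prodMap_single, prodMap_single]
    simp only [MulEquiv.coe_toMonoidHom, MulAut.conj_apply, slot_apply, Subgroup.coe_mul]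
    group
  have h1 : l₀ * prodMap c o (fun _ => g) * l₀⁻¹ = prodMap c o (fun _ => g) :=
    DFunLike.congr_fun h (fun _ => g)
  show l₀ * diag c o g = diag c o g * l₀
  rw [diag_eq]
  conv_rhs => rw [← h1, inv_mul_cancel_right]

theorem diag_conj (c : Cfg p ρ A K) (o : Orb A K L) {b : G} (hbA : b ∈ A)
    (hbN : b ∈ Subgroup.normalizer (K : Set G)) (g : ↥K) :
    diag c o ⟨b * g * b⁻¹, (Subgroup.mem_normalizer_iff.1 hbN g).1 g.2⟩ =
      b * diag c o g * b⁻¹ := by
  classical
  letI := Fintype.ofFinite ↥L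
  let cb : ↥K →* ↥K :=
    ((MulAut.conj b).toMonoidHom.comp K.subtype).codRestrict K
      fun g => (Subgroup.mem_normalizer_iff.1 hbN g).1 g.2
  have h : ((MulAut.conj b).toMonoidHom.comp (prodMap c o)) =
      (prodMap c o).comp (MonoidHom.pi fun i => cb.comp (Pi.evalMonoidHom (fun _ : ↥L => ↥K) i)) := by
    refine MonoidHom.pi_ext fun i x => ?_
    have e : (MonoidHom.pi fun i => cb.comp (Pi.evalMonoidHom (fun _ : ↥L => ↥K) i))
        (Pi.mulSingle i x) = Pi.mulSingle i (cb x) := by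
      funext j
      exact Pi.apply_mulSingle (fun _ => cb) (fun _ => map_one cb) i x j
    rw [MonoidHom.comp_apply, MonoidHom.comp_apply, e, prodMap_single, prodMap_single]
    show b * ((i : G) * x * (i : G)⁻¹) * b⁻¹ = (i : G) * (b * x * b⁻¹) * (i : G)⁻¹
    have hc : b * (i : G) = (i : G) * b := (c.commA b hbA i (o.le i.2)).eq
    have hc' : (i : G)⁻¹ * b⁻¹ = b⁻¹ * (i : G)⁻¹ := by rw [← mul_inv_rev, ← mul_inv_rev, hc]
    calc b * ((i : G) * x * (i : G)⁻¹) * b⁻¹
        = b * (i : G) * x * ((i : G)⁻¹ * b⁻¹) := by group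
      _ = _ := by rw [hc, hc']; group
  exact (DFunLike.congr_fun h (fun _ => g)).symm

/-- The conjugates of `k` as operators. -/
def xop (ρ : Representation (ZMod p) G V) (l k : G) : Module.End (ZMod p) V := ρ (l * k * l⁻¹)

theorem xop_comm (c : Cfg p ρ A K) (o : Orb A K L) {k : G} (hk : k ∈ K) (i j : ↥L) :
    Commute (xop ρ (i : G) k) (xop ρ (j : G) k) := by
  by_cases h : i = j
  · rw [h]
  · exact (slot_comm c o h ⟨k, hk⟩ ⟨k, hk⟩).map ρ

theorem xop_pow {n : ℕ} (l : G) {k : G} (h : k ^ n = 1) : xop ρ l k ^ n = 1 := by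
  rw [xop, ← map_pow, conj_pow, h, mul_one, mul_inv_cancel, map_one]

/-- Conjugation by one slot fixes the other slots. -/
theorem xop_tau (c : Cfg p ρ A K) (o : Orb A K L) {t k : G} (ht : t ∈ K) (hk : k ∈ K) {i j : ↥L}
    (h : i ≠ j) : Commute (ρ (slot (i : G) K ⟨t, ht⟩)) (xop ρ (j : G) k) :=
  (slot_comm c o h ⟨t, ht⟩ ⟨k, hk⟩).map ρ

theorem quad_orbit_false (c : Cfg p ρ A K) (o : Orb A K L)
    (hq : ∀ l ∈ L, ∀ m ∈ L, (ρ l - 1) * (ρ m - 1) = 0)
    (hsum : ∀ [Fintype ↥L], ∑ l : ↥L, (ρ (l : G) - 1) = 0)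
    (hcard : p ∣ Nat.card ↥L) : False := by
  classical
  haveI := nontrivial_V c
  haveI := charP_end (p := p) (V := V)
  letI := Fintype.ofFinite ↥L
  obtain ⟨k, hk, hkc, hkp⟩ := exists_coprime_noncentral c
  obtain ⟨m, hm, hpow⟩ := exists_q hkp
  set N : ↥L → Module.End (ZMod p) V := fun l => ρ (l : G) - 1 with hN
  have hinv : ∀ l : ↥L, ρ ((l : G))⁻¹ = 1 - N l := fun l => by
    have h := hq (l : G)⁻¹ (inv_mem l.2) l l.2
    have h1 : ρ ((l : G))⁻¹ * ρ (l : G) = 1 := rho_inv_mul ρ _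
    rw [mul_sub, mul_one, sub_mul, one_mul, h1] at h
    have h2 := sub_eq_zero.1 h
    calc ρ ((l : G))⁻¹ = (ρ ((l : G))⁻¹ - 1) + 1 := by abel
      _ = (1 - ρ (l : G)) + 1 := by rw [← h2]
      _ = 1 - N l := by simp only [hN]; abel
  have hx : ∀ l : ↥L, xop ρ (l : G) k = ρ k + N l * ρ k - ρ k * N l - N l * ρ k * N l := fun l => by
    rw [xop, map_mul, map_mul, hinv l, show ρ (l : G) = 1 + N l by simp only [hN]; abel]
    noncomm_ring
  set σ := ∑ l : ↥L, xop ρ (l : G) k with hσ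
  have hσ2 : σ = -∑ l : ↥L, N l * ρ k * N l := by
    rw [hσ, Finset.sum_congr rfl fun l _ => hx l]
    rw [Finset.sum_sub_distrib, Finset.sum_sub_distrib, Finset.sum_add_distrib, ← Finset.sum_mul,
      ← Finset.mul_sum, hsum, Finset.sum_const, zero_mul, mul_zero]
    obtain ⟨s, hs⟩ := hcard
    rw [Finset.card_univ, ← Nat.card_eq_fintype_card, hs, mul_comm, mul_nsmul]
    rw [show p • s • ρ k = 0 by rw [nsmul_eq_mul, CharP.cast_eq_zero, zero_mul]]
    simp
  have hσsq : σ * σ = 0 := by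
    rw [hσ2, neg_mul_neg, Finset.sum_mul_sum]
    refine Finset.sum_eq_zero fun i _ => Finset.sum_eq_zero fun j _ => ?_
    calc N i * ρ k * N i * (N j * ρ k * N j) = N i * ρ k * (N i * N j) * ρ k * N j := by noncomm_ring
      _ = 0 := by rw [show N i * N j = 0 from hq i i.2 j j.2]; simp
  have hσq : σ ^ p ^ m = σ := sum_pow_q _ _ (fun i j => xop_comm c o hk i j)
    fun i => hpow _ (xop_pow _ (pow_orderOf_eq_one k))
  have hσ0 : σ = 0 := by
    have := sq_mul_cancel (two_le_pow hm) hσq (Y := 1) (by rw [hσsq, zero_mul])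
    rwa [mul_one] at this
  refine hkc fun t ht => ?_
  have hsplit : σ = xop ρ ((1 : ↥L) : G) k +
      ∑ l ∈ Finset.univ.erase (1 : ↥L), xop ρ (l : G) k :=
    (Finset.add_sum_erase _ _ (Finset.mem_univ _)).symm
  have e1 : xop ρ ((1 : ↥L) : G) k = ρ k := by rw [xop]; simp
  rw [hσ0, e1] at hsplit
  have e2 : ρ k = -∑ l ∈ Finset.univ.erase (1 : ↥L), xop ρ (l : G) k := eq_neg_of_add_eq_zero_left hsplit.symm
  have et : ρ t = ρ (slot ((1 : ↥L) : G) K ⟨t, ht⟩) := by rw [slot_apply]; simp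
  rw [e2, et]
  refine (Commute.sum_left _ _ _ fun l hl => ?_).neg_left
  exact (xop_tau c o ht hk (Finset.ne_of_mem_erase hl).symm).symm

/-- The key step: an element of `A` nontrivial on `K` and trivial on `[V, l]` for `l ∈ L`. -/
theorem diag_fix (c : Cfg p ρ A K) (o : Orb A K L) {b : G} (hbA : b ∈ A)
    (hbN : b ∈ Subgroup.normalizer (K : Set G)) (hb : ¬ Cen ρ K b)
    (hpair : ∀ l ∈ L, (ρ b - 1) * (ρ l - 1) = 0) (g : ↥K) {l : G} (hl : l ∈ L) :
    (ρ (diag c o g) - 1) * (ρ l - 1) = 0 := by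
  let S : Subgroup ↥K :=
    { carrier := {g | ∀ l ∈ L, ρ (diag c o g) * (ρ l - 1) = ρ l - 1}
      one_mem' := fun l _ => by rw [map_one, map_one, one_mul]
      mul_mem' := fun {g h} hg hh l hl => by rw [map_mul, map_mul, mul_assoc, hh l hl, hg l hl]
      inv_mem' := fun {g} hg l hl => by
        conv_lhs => rw [← hg l hl, ← mul_assoc, ← map_mul, ← map_mul, inv_mul_cancel, map_one,
          map_one, one_mul] }
  suffices h : ∀ g : ↥K, g ∈ S by rw [sub_mul, one_mul, h g l hl, sub_self]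
  have hcl : ∀ (g : ↥K) (l : G), l ∈ L → Commute (ρ (diag c o g)) (ρ l - 1) := fun g l hl =>
    (((diag_comm c o hl g).map ρ).symm).sub_right (Commute.one_right _)
  have hnorm : ∀ x g : ↥K, g ∈ S → x * g * x⁻¹ ∈ S := fun x g hg l hl => by
    rw [map_mul, map_mul, map_mul, map_mul, mul_assoc, (hcl x⁻¹ l hl).eq, ← mul_assoc,
      mul_assoc (ρ (diag c o x)), hg l hl, (hcl x l hl).eq, mul_assoc, ← map_mul, ← map_mul,
      mul_inv_cancel, map_one, map_one, mul_one]
  have hcomm : ∀ g : ↥K,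
      (⟨b * g * b⁻¹, (Subgroup.mem_normalizer_iff.1 hbN g).1 g.2⟩ : ↥K) * g⁻¹ ∈ S := fun g l hl => by
    have hb1 : ρ b * (ρ l - 1) = ρ l - 1 := by
      have := hpair l hl; rw [sub_mul, one_mul, sub_eq_zero] at this; exact this
    have hb2 : Commute (ρ b⁻¹) (ρ l - 1) :=
      (((c.commA _ (inv_mem hbA) l (o.le hl)).map ρ)).sub_right (Commute.one_right _)
    have hb3 : ρ b⁻¹ * (ρ l - 1) = ρ l - 1 := by
      conv_lhs => rw [← hb1, ← mul_assoc, rho_inv_mul, one_mul]
    rw [map_mul, diag_conj c o hbA hbN g, map_mul, map_mul, map_mul, mul_assoc,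
      (hcl g⁻¹ l hl).eq, ← mul_assoc, mul_assoc _ (ρ b⁻¹), hb3, mul_assoc (ρ b), (hcl g l hl).eq,
      ← mul_assoc, hb1, mul_assoc, ← map_mul, ← map_mul, mul_inv_cancel, map_one, map_one, mul_one]
  have hS : S.map K.subtype = K := by
    by_contra hne
    have hn : ∀ x ∈ K, ∀ s ∈ S.map K.subtype, x * s * x⁻¹ ∈ S.map K.subtype := by
      rintro x hx _ ⟨g, hg, rfl⟩
      exact ⟨_, hnorm ⟨x, hx⟩ g hg, rfl⟩
    rcases c.qs (S.map K.subtype) (Subgroup.map_subtype_le _) hn with h | h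
    · exact hne h
    · exact hb (cen_of_commutator c hbN fun t ht x hx =>
        (h _ ⟨_, hcomm ⟨t, ht⟩, rfl⟩ x hx).map ρ)
  intro g
  obtain ⟨g', hg', he⟩ : (g : G) ∈ S.map K.subtype := by rw [hS]; exact g.2
  rwa [Subtype.ext he] at hg'

/-- On `[V, δ]` all the conjugates agree. -/
theorem slots_eq (c : Cfg p ρ A K) (o : Orb A K L)
    (hfix : ∀ (g : ↥K) (l : G), l ∈ L → (ρ (diag c o g) - 1) * (ρ l - 1) = 0)
    (g : ↥K) (i : ↥L) :
    xop ρ (i : G) g * (ρ (diag c o g) - 1) = ρ (g : G) * (ρ (diag c o g) - 1) := by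
  set Δ := ρ (diag c o g) with hΔ
  have hl : ∀ l : G, l ∈ L → ρ l * (Δ - 1) = Δ - 1 := fun l hl => by
    have h1 : (ρ l - 1) * (Δ - 1) = 0 := by
      have h2 : Commute (ρ l - 1) (Δ - 1) :=
        ((((diag_comm c o hl g).map ρ)).sub_left (Commute.one_left _)).sub_right (Commute.one_right _)
      rw [h2.eq, hfix g l hl]
    rwa [sub_mul, one_mul, sub_eq_zero] at h1
  have hgΔ : Commute (ρ (g : G)) (Δ - 1) := by
    have h : Commute (ρ (slot ((1 : ↥L) : G) K g)) Δ := by
      classical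
      rw [hΔ, diag_eq, ← prodMap_single c o]
      refine ((Commute.all' ?_).map (prodMap c o)).map ρ
      funext j
      rw [Pi.mul_apply, Pi.mul_apply, Pi.mulSingle_apply]
      split <;> simp
    rw [slot_apply] at h
    simp only [Subgroup.coe_one, one_mul, inv_one, mul_one] at h
    exact h.sub_right (Commute.one_right _)
  calc xop ρ (i : G) g * (Δ - 1) = ρ (i : G) * ρ g * (ρ (i : G)⁻¹ * (Δ - 1)) := by
        rw [xop, map_mul, map_mul]; simp only [mul_assoc]
    _ = ρ (i : G) * ((Δ - 1) * ρ g) := by rw [hl _ (inv_mem i.2), mul_assoc, hgΔ.eq]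
    _ = _ := by rw [← mul_assoc, hl _ i.2, hgΔ.eq]
where
  Commute.all' {H : Type _} [Monoid H] {a b : H} (h : a * b = b * a) : Commute a b := h

theorem pair_orbit_false (c : Cfg p ρ A K) (o : Orb A K L) {b : G} (hbA : b ∈ A)
    (hbN : b ∈ Subgroup.normalizer (K : Set G)) (hb : ¬ Cen ρ K b)
    (hpair : ∀ l ∈ L, (ρ b - 1) * (ρ l - 1) = 0) (hL : 3 ≤ Nat.card ↥L) : False := by
  classical
  haveI := nontrivial_V c
  letI := Fintype.ofFinite ↥L
  have hfix := fun g l hl => diag_fix c o hbA hbN hb hpair g (l := l) hl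
  obtain ⟨k, hk, hkc, hkp⟩ := exists_coprime_noncentral c
  obtain ⟨m, hm, hpow⟩ := exists_q hkp
  set x : ↥L → Module.End (ZMod p) V := fun l => xop ρ (l : G) k with hx
  set Δ := ρ (diag c o ⟨k, hk⟩) with hΔ
  have hxx : ∀ i j, Commute (x i) (x j) := fun i j => xop_comm c o hk i j
  have hxq : ∀ i, x i ^ p ^ m = x i := fun i => hpow _ (xop_pow _ (pow_orderOf_eq_one k))
  -- differences kill `Δ - 1`
  have hXΔ : ∀ i j, (x i - x j) * (Δ - 1) = 0 := fun i j => by
    rw [sub_mul, slots_eq c o hfix ⟨k, hk⟩ i, slots_eq c o hfix ⟨k, hk⟩ j, sub_self]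
  have hsingle : ∀ i j l : ↥L, i ≠ l → j ≠ l → (x i - x j) * x l = x i - x j := by
    intro i j l hil hjl
    let X := x i - x j
    have hXτ : ∀ t : ↥K, Commute X (ρ (slot (l : G) K t)) := fun t =>
      ((xop_tau c o t.2 hk hil.symm).symm).sub_left (xop_tau c o t.2 hk hjl.symm).symm
    let S : Subgroup ↥K :=
      { carrier := {g | X * ρ (slot (l : G) K g) = X}
        one_mem' := by show X * _ = X; rw [map_one, map_one, mul_one]
        mul_mem' := fun {g h} (hg : X * _ = X) (hh : X * _ = X) => by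
          show X * _ = X
          rw [map_mul, map_mul, ← mul_assoc, hg, hh]
        inv_mem' := fun {g} (hg : X * _ = X) => by
          show X * _ = X
          conv_lhs => rw [← hg, mul_assoc, ← map_mul, ← map_mul, mul_inv_cancel, map_one, map_one,
            mul_one] }
    have hnorm : ∀ x' g : ↥K, g ∈ S → x' * g * x'⁻¹ ∈ S := fun x' g (hg : X * _ = X) => by
      show X * _ = X
      rw [map_mul, map_mul, map_mul, map_mul, ← mul_assoc, ← mul_assoc, (hXτ x').eq, mul_assoc _ X,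
        hg, ← (hXτ x').eq, mul_assoc, ← map_mul, ← map_mul, mul_inv_cancel, map_one, map_one, mul_one]
    have hmem : ∀ t : ↥K, t * ⟨k, hk⟩ * t⁻¹ * (⟨k, hk⟩ : ↥K)⁻¹ ∈ S := fun t => by
      set K0 : ↥K := ⟨k, hk⟩
      let f1 : ↥L → ↥K := Function.update (fun _ => K0) l 1
      have e1 : (fun _ : ↥L => K0) = Pi.mulSingle l K0 * f1 := by
        funext j; rw [Pi.mul_apply, Pi.mulSingle_apply]
        by_cases hj : j = l
        · subst hj; simp [f1]
        · simp [f1, hj, Function.update_of_ne hj]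
      have e2 : Pi.mulSingle l t * (fun _ : ↥L => K0) * (Pi.mulSingle l t)⁻¹ =
          Pi.mulSingle l (t * K0 * t⁻¹) * f1 := by
        funext j
        simp only [Pi.mul_apply, Pi.inv_apply, Pi.mulSingle_apply]
        by_cases hj : j = l
        · subst hj; simp [f1]
        · simp [f1, hj, Function.update_of_ne hj]
      set M := ρ (prodMap c o f1) with hM
      have hM' : M * ρ (prodMap c o f1⁻¹) = 1 := by
        rw [hM, ← map_mul, ← map_mul, mul_inv_cancel, map_one, map_one]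
      set τ := ρ (slot (l : G) K t) with hτ
      set τ' := ρ (slot (l : G) K t⁻¹) with hτ'
      have hττ : τ * τ' = 1 := by rw [hτ, hτ', ← map_mul, ← map_mul, mul_inv_cancel, map_one, map_one]
      have h1 : Δ = ρ (slot (l : G) K K0) * M := by
        rw [hΔ, hM, ← prodMap_single c o, ← map_mul, ← map_mul, ← e1, diag_eq]
      have h2 : τ * Δ * τ' = ρ (slot (l : G) K (t * K0 * t⁻¹)) * M := by
        rw [hΔ, hM, hτ, hτ', ← prodMap_single c o, ← prodMap_single c o, ← prodMap_single c o,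
          ← map_mul, ← map_mul, ← map_mul, Pi.mulSingle_inv, diag_eq, ← map_mul, ← map_mul,
          ← map_mul, e2]
      have h3 : X * Δ = X := by
        have := hXΔ i j; rwa [mul_sub, mul_one, sub_eq_zero] at this
      have h4 : X * (τ * Δ * τ') = X := by
        rw [← mul_assoc, ← mul_assoc, (hXτ t).eq, mul_assoc τ, h3, ← (hXτ t).eq, mul_assoc, hττ, mul_one]
      rw [h1] at h3
      rw [h2] at h4
      have h5 : X * ρ (slot (l : G) K (t * K0 * t⁻¹)) = X * ρ (slot (l : G) K K0) := by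
        have := congrArg (· * ρ (prodMap c o f1⁻¹)) (h4.trans h3.symm)
        simpa only [mul_assoc, hM', mul_one] using this
      show X * _ = X
      rw [map_mul, map_mul, ← mul_assoc, h5, mul_assoc, ← map_mul, ← map_mul, mul_inv_cancel,
        map_one, map_one, mul_one]
    have hS : S.map K.subtype = K := by
      by_contra hne
      have hn : ∀ y ∈ K, ∀ s ∈ S.map K.subtype, y * s * y⁻¹ ∈ S.map K.subtype := by
        rintro y hy _ ⟨g, hg, rfl⟩
        exact ⟨_, hnorm ⟨y, hy⟩ g hg, rfl⟩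
      rcases c.qs (S.map K.subtype) (Subgroup.map_subtype_le _) hn with h | h
      · exact hne h
      · refine hkc (cen_of_commutator c (Subgroup.le_normalizer hk) fun t ht => ?_)
        have h1 : Cen ρ K (t * k * t⁻¹ * k⁻¹) := fun y hy =>
          (h _ ⟨_, hmem ⟨t, ht⟩, rfl⟩ y hy).map ρ
        have h2 : Cen ρ K (t * k * t⁻¹ * k⁻¹)⁻¹ := (cenSubgroup ρ K).inv_mem h1
        rwa [show (t * k * t⁻¹ * k⁻¹)⁻¹ = k * t * k⁻¹ * t⁻¹ by group] at h2
    obtain ⟨g', hg', he⟩ : k ∈ S.map K.subtype := by rw [hS]; exact hk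
    have : g' = ⟨k, hk⟩ := Subtype.ext he
    subst this
    exact hg'
  have hmul : ∀ i j h : ↥L, i ≠ j → i ≠ h → j ≠ h → (x i - x j) * (x j - x h) = 0 := by
    intro i j h hij hih hjh
    set Q := (x i - x j) * (x j - x h) with hQ
    have hQc : ∀ n, Commute Q (x n) := fun n =>
      (((hxx i n).sub_left (hxx j n))).mul_left ((hxx j n).sub_left (hxx h n))
    have hQl : ∀ n, n ≠ j → Q * x n = Q := fun n hn => by
      by_cases hni : n = i
      · subst hni
        rw [hQ, mul_assoc, hsingle j h n hij.symm hih.symm]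
      · rw [hQ, mul_assoc, ((hxx j n).sub_left (hxx h n)).eq, ← mul_assoc,
          hsingle i j n (Ne.symm hni) (Ne.symm hn)]
    let R : Submonoid (Module.End (ZMod p) V) :=
      { carrier := {y | Q * y = Q}
        one_mem' := mul_one Q
        mul_mem' := fun {y z} (hy : Q * y = Q) (hz : Q * z = Q) => by
          show Q * (y * z) = Q
          rw [← mul_assoc, hy, hz] }
    let f1 : ↥L → ↥K := Function.update (fun _ => ⟨k, hk⟩) j 1
    have e1 : (fun _ : ↥L => (⟨k, hk⟩ : ↥K)) = Pi.mulSingle j ⟨k, hk⟩ * f1 := by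
      funext n; rw [Pi.mul_apply, Pi.mulSingle_apply]
      by_cases hn : n = j
      · subst hn; simp [f1]
      · simp [f1, hn, Function.update_of_ne hn]
    have hrest : ρ (prodMap c o f1) ∈ R := by
      refine Finset.noncommProd_induction Finset.univ (fun n : ↥L => slot (n : G) K (f1 n))
        (fun a _ b _ hab => slot_comm c o hab _ _)
        (fun y => ρ y ∈ R) (fun a b ha hb => by rw [map_mul]; exact R.mul_mem ha hb)
        (by rw [map_one]; exact R.one_mem) fun n _ => ?_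
      by_cases hn : n = j
      · subst hn; simp [f1, R.one_mem]
      · simp only [f1, Function.update_of_ne hn]
        exact hQl n hn
    have hQΔ : Q * Δ = Q * x j := by
      rw [hΔ, diag_eq, e1, map_mul, prodMap_single, map_mul, ← mul_assoc]
      show Q * x j * _ = _
      rw [(hQc j).eq, mul_assoc, show Q * ρ (prodMap c o f1) = Q from hrest]
    have hQΔ1 : Q * Δ = Q := by
      have h0 : Q * (Δ - 1) = 0 := by
        rw [hQ, mul_assoc, hXΔ, mul_zero]
      rwa [mul_sub, mul_one, sub_eq_zero] at h0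
    have hQall : ∀ n, Q * x n = Q := fun n => by
      by_cases hn : n = j
      · subst hn; rw [← hQΔ, hQΔ1]
      · exact hQl n hn
    have h0 : (x i - x j) * (x i - x j) * (x j - x h) = 0 := by
      rw [mul_assoc, ← hQ, ← (((hQc i).sub_right (hQc j))).eq, mul_sub, hQall, hQall, sub_self]
    exact sq_mul_cancel (two_le_pow hm) (sub_pow_q (hxx i j) (hxq i) (hxq j)) h0
  -- now all slots coincide
  obtain ⟨a, ha, h, hh, hha⟩ :
      ∃ a : ↥L, a ≠ 1 ∧ ∃ h : ↥L, h ≠ 1 ∧ h ≠ a := by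
    have hc : 1 < Fintype.card ↥L := by rw [← Nat.card_eq_fintype_card]; omega
    obtain ⟨a, ha⟩ := Fintype.exists_ne_of_one_lt_card hc (1 : ↥L)
    have : ∃ h : ↥L, h ∉ ({1, a} : Finset ↥L) := by
      by_contra hcon
      push Not at hcon
      have := Finset.card_le_card (fun y _ => hcon y : (Finset.univ : Finset ↥L) ⊆ {1, a})
      rw [Finset.card_univ, ← Nat.card_eq_fintype_card] at this
      have := this.trans Finset.card_le_two
      omega
    obtain ⟨h, hh⟩ := this
    simp only [Finset.mem_insert, Finset.mem_singleton, not_or] at hh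
    exact ⟨a, ha, h, hh.1, hh.2⟩
  have h1 := hmul 1 a h ha.symm hh.symm hha.symm
  have h2 := hmul a 1 h ha hha.symm hh.symm
  set X := x 1 - x a with hX
  have h3 : X * x a = X := by
    rw [mul_sub] at h1
    rw [sub_eq_zero.1 h1, hX, hsingle 1 a h hh.symm hha.symm]
  have h4 : X * x 1 = X := by
    have h2' : X * (x 1 - x h) = 0 := by
      rw [show X = -(x a - x 1) by rw [hX]; abel, neg_mul, h2, neg_zero]
    rw [mul_sub] at h2'
    rw [sub_eq_zero.1 h2', hX, hsingle 1 a h hh.symm hha.symm]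
  have hXX : X * X * 1 = 0 := by
    rw [mul_one]; nth_rewrite 2 [hX]
    rw [mul_sub, h3, h4, sub_self]
  have hX0 : X = 0 := by
    have := sq_mul_cancel (two_le_pow hm) (sub_pow_q (hxx 1 a) (hxq 1) (hxq a)) hXX
    rwa [mul_one] at this
  refine hkc fun t ht => ?_
  have e1 : ρ k = x a := by
    rw [← sub_eq_zero, ← hX0, hX]; simp [hx, xop]
  have et : ρ t = ρ (slot ((1 : ↥L) : G) K ⟨t, ht⟩) := by rw [slot_apply]; simp
  rw [e1, et]
  exact (xop_tau c o ht hk ha.symm).symm

end CfsgLib.PGV
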