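import Cfsg.Agent.Lib.PGV.Basic

/-!
Timmesfeld replacement: if `A` maximises `|A| |C_V(A)|` then so does `C_A([V, A])`, and the
latter is nontrivial on `V` when `A` is.
-/

set_option autoImplicit false

namespace CfsgLib.PGV

variable {p : ℕ} {G V : Type*} [Group G] [AddCommGroup V] [Module (ZMod p) V]
variable {ρ : Representation (ZMod p) G V} {A : Subgroup G}

theorem rho_comm (hA : ∀ a ∈ A, ∀ c ∈ A, Commute a c) {a c : G} (ha : a ∈ A) (hc : c ∈ A) (v : V) :
    ρ a (ρ c v) = ρ c (ρ a v) := by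
  rw [← Module.End.mul_apply, ← Module.End.mul_apply, ← map_mul, ← map_mul, (hA a ha c hc).eq]

theorem symm_cond (hA : ∀ a ∈ A, ∀ c ∈ A, Commute a c) {a b : G} (ha : a ∈ A) (hb : b ∈ A) (v : V) :
    ρ b (ρ a v - v) - (ρ a v - v) = ρ a (ρ b v - v) - (ρ b v - v) := by
  rw [map_sub, map_sub, rho_comm hA hb ha]; abel

/-- `C_A(v + C_V(A))`. -/
def stabMod (ρ : Representation (ZMod p) G V) {A : Subgroup G}
    (hA : ∀ a ∈ A, ∀ c ∈ A, Commute a c) (v : V) : Subgroup G where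
  carrier := {a | a ∈ A ∧ ρ a v - v ∈ fix ρ A}
  one_mem' := ⟨one_mem A, by rw [map_one, Module.End.one_apply, sub_self]; exact Submodule.zero_mem _⟩
  mul_mem' := fun {a c} ha hc => ⟨mul_mem ha.1 hc.1, by
    have e : ρ (a * c) v - v = (ρ c v - v) + (ρ a v - v) := by
      have h := mem_fix.1 hc.2 a ha.1
      rw [map_sub] at h
      rw [map_mul, Module.End.mul_apply, ← sub_add_cancel (ρ a (ρ c v)) (ρ a v), h]
      abel
    rw [e]; exact Submodule.add_mem _ hc.2 ha.2⟩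
  inv_mem' := fun {a} ha => ⟨inv_mem ha.1, by
    have h := mem_fix.1 ha.2 a⁻¹ (inv_mem ha.1)
    have e : ρ a⁻¹ (ρ a v) = v := by
      rw [← Module.End.mul_apply, rho_inv_mul, Module.End.one_apply]
    rw [map_sub, e] at h
    have e2 : ρ a⁻¹ v - v = -(ρ a v - v) := by rw [← h]; abel
    rw [e2]; exact Submodule.neg_mem _ ha.2⟩

/-- `[V, A] + C_V(A)`. -/
def moved (ρ : Representation (ZMod p) G V) (A : Subgroup G) : Submodule (ZMod p) V :=
  Submodule.span (ZMod p) {w | ∃ a ∈ A, ∃ v : V, w = ρ a v - v} ⊔ fix ρ A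

/-- An attaining pair. -/
def Att (ρ : Representation (ZMod p) G V) (A B : Subgroup G) (U : Submodule (ZMod p) V) : Prop :=
  B ≤ A ∧ fix ρ A ≤ U ∧ U ≤ fix ρ B ∧ U ≤ moved ρ A ∧ wt ρ A ≤ Nat.card ↥B * Nat.card ↥U

variable [Finite G] [Finite V]

theorem card_sub_mul_quot {M N : Submodule (ZMod p) V} (h : N ≤ M) :
    Nat.card ↥M = Nat.card ↥N * Nat.card (↥M ⧸ N.comap M.subtype) := by
  rw [Submodule.card_eq_card_quotient_mul_card (N.comap M.subtype)]
  congr 1
  exact Nat.card_congr (Submodule.comapSubtypeEquivOfLe h).toEquiv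

theorem exists_att (hA : ∀ a ∈ A, ∀ c ∈ A, Commute a c) (v : V) :
    ∃ U, Att ρ A (stabMod ρ hA v) U := by
  classical
  set V0 := fix ρ A
  set C := stabMod ρ hA v with hC
  set U := Submodule.span (ZMod p) {w | ∃ a ∈ A, w = ρ a v - v} ⊔ V0 with hU
  have hUf : U ≤ fix ρ C := by
    refine sup_le (Submodule.span_le.2 ?_) (fix_anti fun a ha => ha.1)
    rintro _ ⟨a, ha, rfl⟩ b hb
    have h := mem_fix.1 hb.2 a ha
    have hs := symm_cond (ρ := ρ) hA ha hb.1 v
    rw [h, sub_self] at hs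
    exact sub_eq_zero.1 hs
  have hUm : U ≤ moved ρ A :=
    sup_le_sup (Submodule.span_mono fun w ⟨a, ha, hw⟩ => ⟨a, ha, v, hw⟩) le_rfl
  refine ⟨U, fun a ha => ha.1, le_sup_right, hUf, hUm, ?_⟩
  have hCA : C ≤ A := fun a ha => ha.1
  have hmemU : ∀ a : ↥A, ρ (a : G) v - v ∈ U := fun a =>
    Submodule.mem_sup_left (Submodule.subset_span ⟨a, a.2, rfl⟩)
  let f : ↥A ⧸ C.subgroupOf A → ↥U ⧸ V0.comap U.subtype :=
    Quotient.lift (fun a => Submodule.Quotient.mk ⟨ρ (a : G) v - v, hmemU a⟩) fun a a' h => by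
      replace h : (a⁻¹ * a' : ↥A) ∈ C.subgroupOf A := QuotientGroup.leftRel_apply.1 h
      rw [Subgroup.mem_subgroupOf] at h
      rw [Submodule.Quotient.eq, Submodule.mem_comap]
      show (ρ (a : G) v - v) - (ρ (a' : G) v - v) ∈ V0
      have h2 := Submodule.neg_mem _ h.2
      have h3 : ρ (a : G) (ρ ((a⁻¹ * a' : ↥A) : G) v - v) = ρ ((a⁻¹ * a' : ↥A) : G) v - v :=
        mem_fix.1 h.2 a a.2
      rw [map_sub, ← Module.End.mul_apply, ← map_mul, Subgroup.coe_mul, Subgroup.coe_inv,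
        mul_inv_cancel_left] at h3
      have h4 : (ρ (a : G) v - v) - (ρ (a' : G) v - v) = -(ρ ((a⁻¹ * a' : ↥A) : G) v - v) := by
        rw [Subgroup.coe_mul, Subgroup.coe_inv, ← h3]; abel
      rw [h4]; exact h2
  have hf : Function.Injective f := by
    intro x y
    induction x using QuotientGroup.induction_on with
    | H a =>
      induction y using QuotientGroup.induction_on with
      | H a' =>
        intro h
        change Submodule.Quotient.mk _ = Submodule.Quotient.mk _ at h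
        rw [Submodule.Quotient.eq, Submodule.mem_comap] at h
        change (ρ (a : G) v - v) - (ρ (a' : G) v - v) ∈ V0 at h
        rw [QuotientGroup.eq, Subgroup.mem_subgroupOf]
        refine ⟨(a⁻¹ * a').2, ?_⟩
        have h3 := mem_fix.1 (Submodule.neg_mem _ h) (a : G)⁻¹ (inv_mem a.2)
        have e : ρ (a : G)⁻¹ (ρ (a : G) v) = v := by
          rw [← Module.End.mul_apply, rho_inv_mul, Module.End.one_apply]
        rw [map_neg, map_sub, map_sub, map_sub, e] at h3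
        have h4 : ρ ((a⁻¹ * a' : ↥A) : G) v - v = -((ρ (a : G) v - v) - (ρ (a' : G) v - v)) := by
          rw [← h3, Subgroup.coe_mul, Subgroup.coe_inv, map_mul, Module.End.mul_apply]; abel
        rw [h4]; exact Submodule.neg_mem _ h
  haveI : Finite (↥U ⧸ V0.comap U.subtype) := Finite.of_surjective _ (Submodule.mkQ_surjective _)
  have h1 := Nat.card_le_card_of_injective f hf
  have e1 : Nat.card ↥A = Nat.card (↥A ⧸ C.subgroupOf A) * Nat.card ↥C := by
    rw [Subgroup.card_eq_card_quotient_mul_card_subgroup (C.subgroupOf A),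
      Nat.card_congr (Subgroup.subgroupOfEquivOfLe hCA).toEquiv]
  have e2 := card_sub_mul_quot (le_sup_right : V0 ≤ U)
  show Nat.card ↥A * Nat.card ↥V0 ≤ _
  rw [e1, e2]
  calc _ ≤ Nat.card (↥U ⧸ V0.comap U.subtype) * Nat.card ↥C * Nat.card ↥V0 := by gcongr
    _ = _ := by ring

theorem att_inf (hA : ∀ a ∈ A, ∀ c ∈ A, Commute a c) (hm : IsMax ρ A) {B₁ B₂ : Subgroup G}
    {U₁ U₂ : Submodule (ZMod p) V} (h₁ : Att ρ A B₁ U₁) (h₂ : Att ρ A B₂ U₂) :
    Att ρ A (B₁ ⊓ B₂) (U₁ ⊔ U₂) := by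
  classical
  obtain ⟨a1, b1, c1, d1, e1⟩ := h₁
  obtain ⟨a2, b2, c2, d2, e2⟩ := h₂
  refine ⟨inf_le_left.trans a1, b1.trans le_sup_left,
    sup_le (c1.trans (fix_anti inf_le_left)) (c2.trans (fix_anti inf_le_right)), sup_le d1 d2, ?_⟩
  have hU : Nat.card ↥U₁ * Nat.card ↥U₂ = Nat.card ↥(U₁ ⊔ U₂) * Nat.card ↥(U₁ ⊓ U₂) := by
    rw [card_sub_mul_quot (le_sup_right : U₂ ≤ U₁ ⊔ U₂), card_sub_mul_quot (inf_le_left : U₁ ⊓ U₂ ≤ U₁),
      ← Nat.card_congr (LinearMap.quotientInfEquivSupQuotient U₁ U₂).toEquiv, Submodule.comap_inf]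
    ring
  let f : ↥B₁ × ↥B₂ →* G :=
    (B₁.subtype).noncommCoprod B₂.subtype fun x y => hA _ (a1 x.2) _ (a2 y.2)
  have hB : Nat.card ↥B₁ * Nat.card ↥B₂ = Nat.card ↥(B₁ ⊔ B₂) * Nat.card ↥(B₁ ⊓ B₂) := by
    rw [← Nat.card_prod, Subgroup.card_eq_card_quotient_mul_card_subgroup f.ker,
      Nat.card_congr (QuotientGroup.quotientKerEquivRange f).toEquiv]
    congr 1
    · rw [show f.range = B₁ ⊔ B₂ from (MonoidHom.noncommCoprod_range _ _ _).trans
        (by rw [Subgroup.range_subtype, Subgroup.range_subtype])]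
    · have he : ∀ x : ↥f.ker, ((x.1.1 : G)) = ((x.1.2 : G))⁻¹ := fun x => by
        have h : (x.1.1 : G) * (x.1.2 : G) = 1 := x.2
        exact eq_inv_of_mul_eq_one_left h
      refine Nat.card_congr
        { toFun := fun x => ⟨x.1.1, x.1.1.2, by rw [he x]; exact B₂.inv_mem x.1.2.2⟩
          invFun := fun y => ⟨(⟨y, y.2.1⟩, ⟨(y : G)⁻¹, B₂.inv_mem y.2.2⟩), mul_inv_cancel (y : G)⟩
          left_inv := fun x => by
            apply Subtype.ext; apply Prod.ext
            · rfl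
            · apply Subtype.ext; show (x.1.1 : G)⁻¹ = x.1.2; rw [he x, inv_inv]
          right_inv := fun y => rfl }
  have hle : Nat.card ↥(B₁ ⊔ B₂) * Nat.card ↥(U₁ ⊓ U₂) ≤ wt ρ A := by
    refine le_trans (Nat.mul_le_mul_left _ ?_) (hm _ (sup_le a1 a2))
    refine Nat.card_mono (Set.toFinite _) fun w hw => mem_fix.2 fun b hb => ?_
    have hst : B₁ ⊔ B₂ ≤
        { carrier := {g | ρ g w = w}
          one_mem' := by simp
          mul_mem' := fun {g h} (hg : ρ g w = w) (hh : ρ h w = w) => by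
            show ρ (g * h) w = w
            rw [map_mul, Module.End.mul_apply, hh, hg]
          inv_mem' := fun {g} (hg : ρ g w = w) => by
            show ρ g⁻¹ w = w
            conv_lhs => rw [← hg, ← Module.End.mul_apply, rho_inv_mul, Module.End.one_apply] } :=
      sup_le (fun g hg => c1 hw.1 g hg) fun g hg => c2 hw.2 g hg
    exact hst hb
  have hpos : 0 < wt ρ A := Nat.mul_pos Nat.card_pos Nat.card_pos
  refine Nat.le_of_mul_le_mul_right ?_ hpos
  calc wt ρ A * wt ρ A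
      ≤ (Nat.card ↥B₁ * Nat.card ↥U₁) * (Nat.card ↥B₂ * Nat.card ↥U₂) := Nat.mul_le_mul e1 e2
    _ = (Nat.card ↥(B₁ ⊓ B₂) * Nat.card ↥(U₁ ⊔ U₂)) *
        (Nat.card ↥(B₁ ⊔ B₂) * Nat.card ↥(U₁ ⊓ U₂)) := by
        rw [mul_mul_mul_comm, hB, hU]; ring
    _ ≤ _ := Nat.mul_le_mul_left _ hle

/-- `[V, A] < V`, for a `p`-group `A` of operators and `V ≠ 0`. -/
theorem exists_dual [Fact p.Prime] {M : Type*} [AddCommGroup M] [Module (ZMod p) M] [Finite M]
    [Nontrivial M] {H : Type*} [Group H] [Finite H] (hH : IsPGroup p H)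
    (σ : Representation (ZMod p) H M) :
    ∃ f : Module.Dual (ZMod p) M, f ≠ 0 ∧ ∀ (h : H) (m : M), f (σ h m - m) = 0 := by
  classical
  haveI : Finite (Module.Dual (ZMod p) M) := Finite.of_injective _ DFunLike.coe_injective
  letI act : MulAction H (Module.Dual (ZMod p) M) :=
    { smul := fun h f => f.comp (σ h⁻¹)
      one_smul := fun f => by
        show f.comp (σ (1 : H)⁻¹) = f
        rw [inv_one, map_one]; rfl
      mul_smul := fun a b f => by
        show f.comp (σ (a * b)⁻¹) = (f.comp (σ b⁻¹)).comp (σ a⁻¹)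
        rw [mul_inv_rev, map_mul]; rfl }
  have hd : p ∣ Nat.card (Module.Dual (ZMod p) M) := by
    rw [Module.natCard_eq_pow_finrank (K := ZMod p), Nat.card_zmod, Subspace.dual_finrank_eq]
    exact dvd_pow_self p Module.finrank_pos.ne'
  obtain ⟨f, hf, hne⟩ := hH.exists_fixed_point_of_prime_dvd_card_of_fixed_point
    (Module.Dual (ZMod p) M) hd (a := 0) (fun h => LinearMap.zero_comp _)
  refine ⟨f, hne.symm, fun h m => ?_⟩
  have h1 : f.comp (σ h⁻¹) = f := hf h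
  have h2 := LinearMap.congr_fun h1 (σ h m)
  rw [LinearMap.comp_apply, ← Module.End.mul_apply, ← map_mul, inv_mul_cancel, map_one,
    Module.End.one_apply] at h2
  rw [map_sub, ← h2, sub_self]

/-- `C_A([V, A])`. -/
def quadPart (ρ : Representation (ZMod p) G V) {A : Subgroup G}
    (hA : ∀ a ∈ A, ∀ c ∈ A, Commute a c) : Subgroup G :=
  A ⊓ ⨅ v : V, stabMod ρ hA v

theorem quadPart_le (hA : ∀ a ∈ A, ∀ c ∈ A, Commute a c) : quadPart ρ hA ≤ A := inf_le_left

theorem quad_apply (hA : ∀ a ∈ A, ∀ c ∈ A, Commute a c) {b a : G} (hb : b ∈ quadPart ρ hA)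
    (ha : a ∈ A) (v : V) : ρ b (ρ a v - v) = ρ a v - v := by
  have h := symm_cond (ρ := ρ) hA ha hb.1 v
  rw [mem_fix.1 (Subgroup.mem_iInf.1 hb.2 v).2 a ha, sub_self] at h
  exact sub_eq_zero.1 h

theorem quad_mul (hA : ∀ a ∈ A, ∀ c ∈ A, Commute a c) {b a : G} (hb : b ∈ quadPart ρ hA)
    (ha : a ∈ A) : (ρ b - 1) * (ρ a - 1) = 0 := by
  ext v
  show ρ b (ρ a v - v) - (ρ a v - v) = 0
  rw [quad_apply hA hb ha, sub_self]

theorem mem_quadPart_of (hA : ∀ a ∈ A, ∀ c ∈ A, Commute a c) {b : G} (hb : b ∈ A)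
    (h : ∀ a ∈ A, (ρ b - 1) * (ρ a - 1) = 0) : b ∈ quadPart ρ hA := by
  refine ⟨hb, Subgroup.mem_iInf.2 fun v => ⟨hb, mem_fix.2 fun a ha => ?_⟩⟩
  have h1 : ρ b (ρ a v - v) - (ρ a v - v) = 0 := LinearMap.congr_fun (h a ha) v
  rw [symm_cond (ρ := ρ) hA ha hb v] at h1
  exact sub_eq_zero.1 h1

theorem exists_att_quad (hA : ∀ a ∈ A, ∀ c ∈ A, Commute a c) (hm : IsMax ρ A) :
    ∃ U, Att ρ A (quadPart ρ hA) U := by
  classical
  haveI := Fintype.ofFinite V
  have key : ∀ s : Finset V, ∃ U, Att ρ A (A ⊓ s.inf (stabMod ρ hA)) U := fun s => by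
    induction s using Finset.induction_on with
    | empty =>
      refine ⟨fix ρ A, inf_le_left, le_rfl, fix_anti inf_le_left, le_sup_right, ?_⟩
      rw [Finset.inf_empty, inf_top_eq]; rfl
    | insert v s _ ih =>
      obtain ⟨U, hU⟩ := ih
      obtain ⟨W, hW⟩ := exists_att (ρ := ρ) hA v
      refine ⟨W ⊔ U, ?_⟩
      rw [Finset.inf_insert, inf_left_comm]
      exact att_inf hA hm hW hU
  obtain ⟨U, hU⟩ := key Finset.univ
  refine ⟨U, ?_⟩
  have e : quadPart ρ hA = A ⊓ Finset.univ.inf (stabMod ρ hA) := by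
    rw [quadPart, Finset.inf_univ_eq_iInf]
  rw [e]; exact hU

theorem wt_quadPart (hA : ∀ a ∈ A, ∀ c ∈ A, Commute a c) (hm : IsMax ρ A) :
    wt ρ (quadPart ρ hA) = wt ρ A := by
  obtain ⟨U, h1, -, h3, -, h5⟩ := exists_att_quad hA hm
  exact le_antisymm (hm _ h1) (h5.trans (Nat.mul_le_mul_left _ (Nat.card_mono (Set.toFinite _) h3)))

theorem isMax_quadPart (hA : ∀ a ∈ A, ∀ c ∈ A, Commute a c) (hm : IsMax ρ A) :
    IsMax ρ (quadPart ρ hA) := fun B hB => by
  rw [wt_quadPart hA hm]; exact hm B (hB.trans (quadPart_le hA))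

theorem quadPart_nontrivial [Fact p.Prime] (hA : ∀ a ∈ A, ∀ c ∈ A, Commute a c)
    (hp : IsPGroup p ↥A) (hm : IsMax ρ A) {a₀ : G} (ha₀ : a₀ ∈ A) (hne : ρ a₀ ≠ 1) :
    ∃ b ∈ quadPart ρ hA, ρ b ≠ 1 := by
  classical
  by_contra hcon
  push Not at hcon
  obtain ⟨U, h1, -, -, h4, h5⟩ := exists_att_quad hA hm
  have hfix : fix ρ (quadPart ρ hA) = ⊤ := eq_top_iff.2 fun v _ b hb => by rw [hcon b hb]; rfl
  have htop : moved ρ A = ⊤ := by
    have h6 : Nat.card ↥(quadPart ρ hA) * Nat.card V ≤ Nat.card ↥(quadPart ρ hA) * Nat.card ↥U := by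
      refine le_trans (le_of_eq ?_) ((hm _ h1).trans h5)
      rw [wt, hfix, Nat.card_congr (Submodule.topEquiv (R := ZMod p) (M := V)).toEquiv]
    have h7 : Nat.card V ≤ Nat.card ↥U := Nat.le_of_mul_le_mul_left h6 Nat.card_pos
    have h8 : U = ⊤ := SetLike.coe_injective (by
      rw [Submodule.top_coe]
      exact Set.eq_univ_of_forall fun v => by
        by_contra hv
        exact absurd h7 (not_le.2 (Finite.card_subtype_lt (p := fun x : V => x ∈ U) hv)))
    rw [eq_top_iff, ← h8]; exact h4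
  set M : Submodule (ZMod p) V := Submodule.span (ZMod p) {w | ∃ a ∈ A, ∃ v : V, w = ρ a v - v}
    with hM
  have hgen : ∀ a ∈ A, ∀ v : V, ρ a v - v ∈ M := fun a ha v =>
    Submodule.subset_span ⟨a, ha, v, rfl⟩
  have hdec : ∀ v : V, ∃ m ∈ M, ∀ a ∈ A, ρ a v - v = ρ a m - m := fun v => by
    have hv : v ∈ M ⊔ fix ρ A := by
      have : v ∈ moved ρ A := by rw [htop]; exact Submodule.mem_top
      exact this
    obtain ⟨m, hmm, f, hf, rfl⟩ := Submodule.mem_sup.1 hv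
    exact ⟨m, hmm, fun a ha => by rw [map_add, mem_fix.1 hf a ha]; abel⟩
  have hinv : ∀ a : ↥A, ∀ m ∈ M, ρ (a : G) m ∈ M := fun a m hm' => by
    have := Submodule.add_mem _ (hgen a a.2 m) hm'
    rwa [sub_add_cancel] at this
  haveI : Nontrivial ↥M := by
    rw [Submodule.nontrivial_iff_ne_bot]
    intro h
    apply hne
    ext v
    have := hgen a₀ ha₀ v
    rw [h, Submodule.mem_bot] at this
    exact sub_eq_zero.1 this
  let σ : Representation (ZMod p) ↥A ↥M :=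
    { toFun := fun a => (ρ (a : G)).restrict (hinv a)
      map_one' := by ext m; show ρ ((1 : ↥A) : G) (m : V) = m; simp
      map_mul' := fun a b => by
        ext m; show ρ ((a * b : ↥A) : G) (m : V) = ρ (a : G) (ρ (b : G) m)
        rw [Subgroup.coe_mul, map_mul]; rfl }
  obtain ⟨f, hf, hf0⟩ := exists_dual hp σ
  apply hf
  ext ⟨w, hw⟩
  rw [LinearMap.zero_apply]
  induction hw using Submodule.span_induction with
  | mem x hx =>
    obtain ⟨a, ha, v, rfl⟩ := hx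
    obtain ⟨m, hmm, hma⟩ := hdec v
    refine (congrArg f (Subtype.ext ?_)).trans (hf0 ⟨a, ha⟩ ⟨m, hmm⟩)
    exact hma a ha
  | zero => exact map_zero f
  | add x y hx hy ihx ihy => exact (map_add f ⟨x, hx⟩ ⟨y, hy⟩).trans (by rw [ihx, ihy, add_zero])
  | smul c x hx ihx => exact (map_smul f c ⟨x, hx⟩).trans (by rw [ihx, smul_zero])

end CfsgLib.PGV
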