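import Cfsg.Agent.Lib.PGV.Orbit
import Cfsg.Agent.Lib.Involution.BaerSuzuki

/-!
The case `p = 2`, `K` having two conjugates under `A`: the decomposition `V = C_V(K) ⊕ [V, K]`.
-/

set_option autoImplicit false
set_option linter.style.haveILetI false

namespace CfsgLib.PGV

variable {G V : Type*} [Group G] [AddCommGroup V] [Module (ZMod 2) V]
variable {ρ : Representation (ZMod 2) G V} {A K : Subgroup G}

theorem add_selfV (v : V) : v + v = 0 := by
  have h : ((1 : ZMod 2) + 1) • v = v + v := by rw [add_smul, one_smul]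
  rw [← h, show (1 : ZMod 2) + 1 = 0 from rfl, zero_smul]

theorem sub_eq_addV (v w : V) : v - w = v + w := by
  rw [sub_eq_add_neg, ← eq_neg_of_add_eq_zero_left (add_selfV w)]

/-- `k + k⁻¹`. -/
def tr (ρ : Representation (ZMod 2) G V) (g : G) : Module.End (ZMod 2) V := ρ g + ρ g⁻¹

theorem tr_apply (g : G) (v : V) : tr ρ g v = ρ g v + ρ g⁻¹ v := rfl

theorem rho_inv_apply (g : G) (v : V) : ρ g⁻¹ (ρ g v) = v := by
  rw [← Module.End.mul_apply, rho_inv_mul, Module.End.one_apply]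

theorem rho_apply_inv (g : G) (v : V) : ρ g (ρ g⁻¹ v) = v := by
  rw [← Module.End.mul_apply, rho_mul_inv, Module.End.one_apply]

theorem inv_eq_selfA (c : Cfg 2 ρ A K) {a : G} (ha : a ∈ A) : a⁻¹ = a :=
  inv_eq_of_mul_eq_one_right (by rw [← sq]; exact c.powA a ha)

/-- The invariance of `k + k⁻¹` under the elements of `A` moving `K`. -/
def TrInv (ρ : Representation (ZMod 2) G V) (A K : Subgroup G) : Prop :=
  ∀ a ∈ A, a ∉ Subgroup.normalizer (K : Set G) → ∀ g ∈ K, tr ρ (a * g * a⁻¹) = tr ρ g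

variable [Finite G]

theorem tr_eq_of_pair (c : Cfg 2 ρ A K) {a b : G} (ha : a ∈ A)
    (haN : a ∉ Subgroup.normalizer (K : Set G)) (hbA : b ∈ A)
    (hbN : b ∈ Subgroup.normalizer (K : Set G)) (hb : ¬ Cen ρ K b)
    (hpair : (ρ b - 1) * (ρ a - 1) = 0) {g : G} (hg : g ∈ K) :
    tr ρ (a * g * a⁻¹) = tr ρ g := by
  classical
  have ha2 : a * a = 1 := by rw [← sq]; exact c.powA a ha
  have hmem : ∀ l ∈ Subgroup.zpowers a, l = 1 ∨ l = a := by
    intro l hl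
    obtain ⟨n, rfl⟩ := Subgroup.mem_zpowers_iff.1 hl
    rcases Int.even_or_odd n with ⟨j, rfl⟩ | ⟨j, rfl⟩
    · left; rw [zpow_add, ← (Commute.refl a).mul_zpow, ha2, one_zpow]
    · right; rw [zpow_add, two_mul, zpow_add, ← (Commute.refl a).mul_zpow, ha2, one_zpow, one_mul,
        zpow_one]
  have hane : a ≠ 1 := fun h => haN (h ▸ one_mem _)
  have o : Orb A K (Subgroup.zpowers a) := ⟨(Subgroup.zpowers_le).2 ha, fun l hl hlN => by
    rcases hmem l hl with h | h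
    · exact h
    · exact absurd (h ▸ hlN) haN⟩
  have hp' : ∀ l ∈ Subgroup.zpowers a, (ρ b - 1) * (ρ l - 1) = 0 := fun l hl => by
    rcases hmem l hl with rfl | rfl
    · rw [map_one, sub_self, mul_zero]
    · exact hpair
  have hfix := fun g l hl => diag_fix c o hbA hbN hb hp' g (l := l) hl
  set a' : ↥(Subgroup.zpowers a) := ⟨a, Subgroup.mem_zpowers a⟩
  have h := slots_eq c o hfix ⟨g, hg⟩ a'
  have ha' : a' ≠ 1 := fun h => hane (congrArg Subtype.val h)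
  have e : (fun _ : ↥(Subgroup.zpowers a) => (⟨g, hg⟩ : ↥K)) =
      Pi.mulSingle 1 ⟨g, hg⟩ * Pi.mulSingle a' ⟨g, hg⟩ := by
    funext j
    rw [Pi.mul_apply]
    rcases hmem j j.2 with hj | hj
    · rw [show j = 1 from Subtype.ext hj, Pi.mulSingle_eq_same, Pi.mulSingle_eq_of_ne ha'.symm, mul_one]
    · rw [show j = a' from Subtype.ext hj, Pi.mulSingle_eq_same, Pi.mulSingle_eq_of_ne ha', one_mul]
  rw [diag_eq, e, map_mul, prodMap_single, prodMap_single, slot_apply, slot_apply] at h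
  simp only [Subgroup.coe_one, one_mul, inv_one, mul_one, a', xop] at h
  set g' := a * g * a⁻¹ with hg'
  have hc : Commute g' g := c.comm a ha haN g hg g hg
  simp only [mul_sub, mul_one, ← map_mul] at h
  have h2 := congrArg (fun X => X * ρ (g * g')⁻¹) h
  simp only [sub_mul, ← map_mul] at h2
  rw [show g' * (g * g') * (g * g')⁻¹ = g' by group,
    show g * (g * g') * (g * g')⁻¹ = g by group, show g' * (g * g')⁻¹ = g⁻¹ by group,
    show g * (g * g')⁻¹ = g'⁻¹ by rw [← hc.eq]; group] at h2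
  show ρ g' + ρ g'⁻¹ = ρ g + ρ g⁻¹
  calc ρ g' + ρ g'⁻¹ = (ρ g' - ρ g⁻¹) + (ρ g⁻¹ + ρ g'⁻¹) := by abel
    _ = (ρ g - ρ g'⁻¹) + (ρ g⁻¹ + ρ g'⁻¹) := by rw [h2]
    _ = _ := by abel

omit [Finite G] in
theorem tr_cen (c : Cfg 2 ρ A K) (hT : TrInv ρ A K) {a : G} (ha : a ∈ A)
    (haN : a ∉ Subgroup.normalizer (K : Set G)) {g : G} (hg : g ∈ K) {x : G} (hx : x ∈ K) :
    Commute (tr ρ g) (ρ x) := by
  rw [← hT a ha haN g hg]
  refine ((c.comm a ha haN g hg x hx).map ρ).add_left ?_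
  rw [show (a * g * a⁻¹)⁻¹ = a * g⁻¹ * a⁻¹ by group]
  exact (c.comm a ha haN g⁻¹ (inv_mem hg) x hx).map ρ

omit [Finite G] in
theorem tr_commA (c : Cfg 2 ρ A K) (hT : TrInv ρ A K) {a : G} (ha : a ∈ A)
    (haN : a ∉ Subgroup.normalizer (K : Set G)) {g : G} (hg : g ∈ K) {d : G} (hd : d ∈ A) :
    Commute (ρ d) (tr ρ g) := by
  have hmov : ∀ e ∈ A, e ∉ Subgroup.normalizer (K : Set G) → Commute (ρ e) (tr ρ g) := by
    intro e he heN
    show ρ e * tr ρ g = tr ρ g * ρ e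
    conv_rhs => rw [← hT e he heN g hg]
    simp only [tr, mul_add, add_mul, ← map_mul]
    rw [show e * g * e⁻¹ * e = e * g by group, show (e * g * e⁻¹)⁻¹ * e = e * g⁻¹ by group]
  by_cases hdN : d ∈ Subgroup.normalizer (K : Set G)
  · rw [show d = a⁻¹ * (a * d) by group, map_mul]
    refine (hmov _ (inv_mem ha) fun h => haN (by simpa using inv_mem h)).mul_left
      (hmov _ (mul_mem ha hd) fun h => haN ?_)
    have := mul_mem h (inv_mem hdN)
    rwa [mul_inv_cancel_right] at this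
  · exact hmov d hd hdN

/-- `C_V(K)`. -/
abbrev cV (ρ : Representation (ZMod 2) G V) (K : Subgroup G) : Submodule (ZMod 2) V := fix ρ K

/-- `[V, K]`. -/
def mV (ρ : Representation (ZMod 2) G V) (K : Subgroup G) : Submodule (ZMod 2) V :=
  Submodule.span (ZMod 2) {w | ∃ g ∈ K, ∃ v : V, w = ρ g v - v}

/-- A noncentral element of odd period. -/
structure OddNC (ρ : Representation (ZMod 2) G V) (K : Subgroup G) (k : G) : Prop where
  mem : k ∈ K
  nc : ¬ Cen ρ K k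
  period : ∃ n : ℕ, Odd n ∧ k ^ n = 1

section split

variable (c : Cfg 2 ρ A K) (hT : TrInv ρ A K) {a : G} (ha : a ∈ A)
  (haN : a ∉ Subgroup.normalizer (K : Set G)) {k : G} (hk : OddNC ρ K k)

include c hT ha haN hk

omit [Finite G] in
theorem tr_pow_q : ∃ q : ℕ, 2 ≤ q ∧ tr ρ k ^ q = tr ρ k := by
  haveI := nontrivial_V c
  haveI := charP_end (p := 2) (V := V)
  obtain ⟨n, hn, hkn⟩ := hk.period
  obtain ⟨m, hm, hpow⟩ := exists_q (p := 2) (Nat.coprime_two_right.2 hn)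
  refine ⟨2 ^ m, two_le_pow hm, ?_⟩
  have hcm : Commute (ρ k) (ρ k⁻¹) := ((Commute.refl k).inv_right).map ρ
  rw [tr, add_pow_char_pow_of_commute (p := 2) (n := m) hcm, hpow _ (by rw [← map_pow, hkn, map_one]),
    hpow _ (by rw [← map_pow, inv_pow, hkn, inv_one, map_one])]

omit [Finite G] in
theorem ker_tr : LinearMap.ker (tr ρ k) = cV ρ K := by
  refine le_antisymm (fun v hv g hg => ?_) fun v hv => ?_
  · let S : Subgroup G :=
      { carrier := {g | g ∈ K ∧ ∀ v ∈ LinearMap.ker (tr ρ k), ρ g v = v}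
        one_mem' := ⟨one_mem K, fun v _ => by rw [map_one]; rfl⟩
        mul_mem' := fun {g h} hg hh => ⟨mul_mem hg.1 hh.1, fun v hv => by
          rw [map_mul, Module.End.mul_apply, hh.2 v hv, hg.2 v hv]⟩
        inv_mem' := fun {g} hg => ⟨inv_mem hg.1, fun v hv => by
          conv_lhs => rw [← hg.2 v hv]
          rw [rho_inv_apply]⟩ }
    have hinv : ∀ x ∈ K, ∀ v ∈ LinearMap.ker (tr ρ k), ρ x v ∈ LinearMap.ker (tr ρ k) := by
      intro x hx v hv
      rw [LinearMap.mem_ker, ← Module.End.mul_apply, (tr_cen c hT ha haN hk.mem hx).eq,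
        Module.End.mul_apply, LinearMap.mem_ker.1 hv, map_zero]
    have hS : S = K := all_of c (fun _ h => h.1)
      (fun x hx s hs => ⟨mul_mem (mul_mem hx hs.1) (inv_mem hx), fun v hv => by
        rw [map_mul, map_mul, Module.End.mul_apply, Module.End.mul_apply,
          hs.2 _ (hinv _ (inv_mem hx) v hv), rho_apply_inv]⟩)
      (g := k) ⟨hk.mem, fun v hv => ?_⟩ hk.nc
    · exact ((hS.symm ▸ hg : g ∈ S)).2 v hv
    · rw [LinearMap.mem_ker, tr_apply] at hv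
      have h1 : ρ k v = ρ k⁻¹ v := by rw [← sub_eq_zero, sub_eq_addV, hv]
      have h2 : ρ (k ^ 2) v = v := by
        rw [sq, map_mul, Module.End.mul_apply, h1, rho_apply_inv]
      obtain ⟨n, ⟨j, hj⟩, hkn⟩ := hk.period
      have h3 : ρ ((k ^ 2) ^ (j + 1)) v = v := by
        induction j + 1 with
        | zero => rw [pow_zero, map_one]; rfl
        | succ i ih => rw [pow_succ, map_mul, Module.End.mul_apply, h2, ih]
      rwa [← pow_mul, show 2 * (j + 1) = n + 1 by omega, pow_succ, hkn, one_mul] at h3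
  · rw [LinearMap.mem_ker, tr_apply, hv k hk.mem, hv k⁻¹ (inv_mem hk.mem), add_selfV]

omit [Finite G] in
theorem range_tr : LinearMap.range (tr ρ k) = mV ρ K := by
  refine le_antisymm ?_ (Submodule.span_le.2 ?_)
  · rintro _ ⟨v, rfl⟩
    have e : tr ρ k v = (ρ k v - v) + (ρ k⁻¹ v - v) := by
      rw [tr_apply, sub_eq_addV, sub_eq_addV, show ρ k v + v + (ρ k⁻¹ v + v) =
        ρ k v + ρ k⁻¹ v + (v + v) by abel, add_selfV, add_zero]
    rw [e]
    exact Submodule.add_mem _ (Submodule.subset_span ⟨k, hk.mem, v, rfl⟩)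
      (Submodule.subset_span ⟨k⁻¹, inv_mem hk.mem, v, rfl⟩)
  · rintro _ ⟨g, hg, v, rfl⟩
    obtain ⟨q, hq, hqp⟩ := tr_pow_q c hT ha haN hk
    set w := (tr ρ k ^ (q - 2)) v
    have hq' : tr ρ k ^ q = tr ρ k * tr ρ k * tr ρ k ^ (q - 2) := by
      rw [← sq, ← pow_add]; congr 1; omega
    have h1 : v - tr ρ k w ∈ cV ρ K := by
      rw [← ker_tr c hT ha haN hk, LinearMap.mem_ker, map_sub,
        show tr ρ k (tr ρ k w) = (tr ρ k ^ q) v by rw [hq']; rfl, hqp, sub_self]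
    have h2 := h1 g hg
    rw [map_sub] at h2
    refine ⟨ρ g w - w, ?_⟩
    rw [map_sub, ← Module.End.mul_apply, (tr_cen c hT ha haN hk.mem hg).eq, Module.End.mul_apply]
    have h3 : ρ g v - v = ρ g (tr ρ k w) - tr ρ k w :=
      calc ρ g v - v = (ρ g v - ρ g (tr ρ k w)) + (ρ g (tr ρ k w) - v) := by abel
        _ = (v - tr ρ k w) + (ρ g (tr ρ k w) - v) := by rw [h2]
        _ = _ := by abel
    exact h3.symm

omit [Finite G] in
theorem tr_inj {y : V} (hy : y ∈ mV ρ K) (h : tr ρ k y = 0) : y = 0 := by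
  rw [← range_tr c hT ha haN hk] at hy
  obtain ⟨w, rfl⟩ := hy
  obtain ⟨q, hq, hqp⟩ := tr_pow_q c hT ha haN hk
  have hq' : tr ρ k ^ q = tr ρ k ^ (q - 2) * (tr ρ k * tr ρ k) := by
    rw [← sq, ← pow_add]; congr 1; omega
  have e : tr ρ k w = (tr ρ k ^ q) w := by rw [hqp]
  rw [e, hq']
  show (tr ρ k ^ (q - 2)) (tr ρ k (tr ρ k w)) = 0
  rw [h, map_zero]

omit [Finite G] in
theorem disjoint_cV {y : V} (hy : y ∈ mV ρ K) (hyU : y ∈ cV ρ K) : y = 0 :=
  tr_inj c hT ha haN hk hy (by rw [← LinearMap.mem_ker, ker_tr c hT ha haN hk]; exact hyU)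

omit [Finite G] in
theorem exists_split (v : V) : ∃ u ∈ cV ρ K, ∃ y ∈ mV ρ K, v = u + y := by
  obtain ⟨q, hq, hqp⟩ := tr_pow_q c hT ha haN hk
  refine ⟨v - tr ρ k ((tr ρ k ^ (q - 2)) v), ?_, _, ?_, (sub_add_cancel _ _).symm⟩
  · have hq' : tr ρ k ^ q = tr ρ k * tr ρ k * tr ρ k ^ (q - 2) := by
      rw [← sq, ← pow_add]; congr 1; omega
    rw [← ker_tr c hT ha haN hk, LinearMap.mem_ker, map_sub]
    show _ - (tr ρ k * tr ρ k * tr ρ k ^ (q - 2)) v = 0
    rw [← hq', hqp, sub_self]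
  · rw [← range_tr c hT ha haN hk]; exact ⟨_, rfl⟩

omit [Finite G] in
theorem tr_surj {y : V} (hy : y ∈ mV ρ K) : ∃ z ∈ mV ρ K, tr ρ k z = y := by
  rw [← range_tr c hT ha haN hk] at hy
  obtain ⟨w, rfl⟩ := hy
  obtain ⟨u, hu, z, hz, rfl⟩ := exists_split c hT ha haN hk w
  refine ⟨z, hz, ?_⟩
  rw [← ker_tr c hT ha haN hk, LinearMap.mem_ker] at hu
  rw [map_add, hu, zero_add]

omit [Finite G] in
theorem mV_inv {d : G} (hd : d ∈ A ∨ d ∈ K) {y : V} (hy : y ∈ mV ρ K) : ρ d y ∈ mV ρ K := by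
  rw [← range_tr c hT ha haN hk] at hy ⊢
  obtain ⟨w, rfl⟩ := hy
  have hcm : Commute (ρ d) (tr ρ k) := hd.elim (fun h => tr_commA c hT ha haN hk.mem h)
    fun h => (tr_cen c hT ha haN hk.mem h).symm
  exact ⟨ρ d w, by rw [← Module.End.mul_apply, ← hcm.eq]; rfl⟩

omit [Finite G] in
theorem cV_inv {d : G} (hd : d ∈ A ∨ d ∈ K) {u : V} (hu : u ∈ cV ρ K) : ρ d u ∈ cV ρ K := by
  rw [← ker_tr c hT ha haN hk, LinearMap.mem_ker] at hu ⊢
  have hcm : Commute (ρ d) (tr ρ k) := hd.elim (fun h => tr_commA c hT ha haN hk.mem h)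
    fun h => (tr_cen c hT ha haN hk.mem h).symm
  rw [← Module.End.mul_apply, ← hcm.eq, Module.End.mul_apply, hu, map_zero]

end split

omit [Finite G] in
/-- The identity `k² = T k + 1`. -/
theorem sq_eq_tr (k : G) (v : V) : ρ k (ρ k v) = tr ρ k (ρ k v) + v := by
  rw [tr_apply, rho_inv_apply, add_assoc, add_selfV, add_zero]

/-- An element of `A` normalising and moving `K` inverts a noncentral element of odd order. -/
theorem exists_inverted (c : Cfg 2 ρ A K) {b : G} (hbA : b ∈ A)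
    (hbN : b ∈ Subgroup.normalizer (K : Set G)) (hb : ¬ Cen ρ K b) :
    ∃ k, OddNC ρ K k ∧ b * k * b⁻¹ = k⁻¹ := by
  classical
  have hb2 : b * b = 1 := by rw [← sq]; exact c.powA b hbA
  set H : Subgroup G := K ⊔ Subgroup.zpowers b with hH
  have hHN : H ≤ Subgroup.normalizer (K : Set G) :=
    sup_le Subgroup.le_normalizer ((Subgroup.zpowers_le).2 hbN)
  haveI hKn : (K.subgroupOf H).Normal := (Subgroup.normal_subgroupOf_iff_le_normalizer le_sup_left).2 hHN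
  let Z : Subgroup ↥H := (cenSubgroup ρ K).subgroupOf H
  haveI hZn : Z.Normal := ⟨fun x hx g => by
    have hx' : Cen ρ K (x : G) := Subgroup.mem_subgroupOf.1 hx
    show ((g * x * g⁻¹ : ↥H) : G) ∈ cenSubgroup ρ K
    rw [Subgroup.coe_mul, Subgroup.coe_mul, Subgroup.coe_inv]
    exact cen_conj (hHN g.2) hx'⟩
  let bH : ↥H := ⟨b, Subgroup.mem_sup_right (Subgroup.mem_zpowers b)⟩
  set t : ↥H ⧸ Z := QuotientGroup.mk bH with ht
  have ht1 : t ≠ 1 := fun h => hb (Subgroup.mem_subgroupOf.1 ((QuotientGroup.eq_one_iff _).1 h))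
  have hto : orderOf t = 2 := orderOf_eq_prime (by
    rw [ht, ← QuotientGroup.mk_pow, QuotientGroup.eq_one_iff,
      show bH ^ 2 = 1 from Subtype.ext (by rw [SubmonoidClass.coe_pow, sq]; exact hb2)]
    exact one_mem Z) ht1
  have hcom : ∀ g : ↥H, b * (g : G) * b⁻¹ * (g : G)⁻¹ ∈ K := by
    intro g
    let S : Subgroup G :=
      { carrier := {g | g ∈ Subgroup.normalizer (K : Set G) ∧ b * g * b⁻¹ * g⁻¹ ∈ K}
        one_mem' := ⟨one_mem _, by simp⟩
        mul_mem' := fun {g h} hg hh => ⟨mul_mem hg.1 hh.1, by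
          rw [show b * (g * h) * b⁻¹ * (g * h)⁻¹ =
            (b * g * b⁻¹ * g⁻¹) * (g * (b * h * b⁻¹ * h⁻¹) * g⁻¹) by group]
          exact mul_mem hg.2 ((Subgroup.mem_normalizer_iff.1 hg.1 _).1 hh.2)⟩
        inv_mem' := fun {g} hg => ⟨inv_mem hg.1, by
          have h1 := (Subgroup.mem_normalizer_iff.1 (inv_mem hg.1) _).1 (inv_mem hg.2)
          simp only [mul_inv_rev, inv_inv] at h1
          have e : g⁻¹ * (g * (b * (g⁻¹ * b⁻¹))) * g = b * g⁻¹ * b⁻¹ * g := by group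
          rw [inv_inv, ← e]; exact h1⟩ }
    have hle : H ≤ S := sup_le (fun x hx => ⟨Subgroup.le_normalizer hx,
      mul_mem ((Subgroup.mem_normalizer_iff.1 hbN x).1 hx) (inv_mem hx)⟩)
      ((Subgroup.zpowers_le).2 ⟨hbN, by simp⟩)
    exact (hle g.2).2
  obtain ⟨h, hh1, hho, hhi⟩ :
      ∃ h : ↥H ⧸ Z, h ≠ 1 ∧ Odd (orderOf h) ∧ t * h * t⁻¹ = h⁻¹ := by
    refine CfsgLib.Involution.BaerSuzuki.exists_inverted_odd t hto fun N hN hN2 htN => ?_
    have hmem : ∀ x ∈ K, ∀ hx : x ∈ H,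
        QuotientGroup.mk (⟨b * x * b⁻¹ * x⁻¹, Subgroup.mem_sup_left (hcom ⟨x, hx⟩)⟩ : ↥H) ∈ N := by
      intro x _ hx
      have h2 : t * (QuotientGroup.mk (⟨x, hx⟩ : ↥H)) * t⁻¹ * (QuotientGroup.mk (⟨x, hx⟩ : ↥H))⁻¹ ∈ N := by
        rw [show ∀ g : ↥H ⧸ Z, t * g * t⁻¹ * g⁻¹ = t * (g * t⁻¹ * g⁻¹) from fun g => by group]
        exact mul_mem htN (hN.conj_mem _ (inv_mem htN) _)
      exact h2
    let P : Subgroup ↥H := N.comap (QuotientGroup.mk' Z) ⊓ K.subgroupOf H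
    haveI : (N.comap (QuotientGroup.mk' Z)).Normal := hN.comap _
    haveI hP : P.Normal := inferInstance
    have hPK : P.map H.subtype ≤ K := by
      rintro _ ⟨x, hx, rfl⟩; exact Subgroup.mem_subgroupOf.1 hx.2
    rcases c.qs (P.map H.subtype) hPK (by
      rintro y hy _ ⟨x, hx, rfl⟩
      exact ⟨⟨y, Subgroup.mem_sup_left hy⟩ * x * (⟨y, Subgroup.mem_sup_left hy⟩ : ↥H)⁻¹,
        hP.conj_mem x hx _, rfl⟩) with h | h
    · -- the image of `K` is a `2`-group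
      have hK2 : ∀ x : ↥K, ∃ j : ℕ, (QuotientGroup.mk x : ↥K ⧸ cenIn ρ K) ^ 2 ^ j = 1 := by
        intro x
        obtain ⟨y, hy, hyx⟩ : (x : G) ∈ P.map H.subtype := by rw [h]; exact x.2
        obtain ⟨j, hj⟩ := hN2 ⟨_, hy.1⟩
        refine ⟨j, ?_⟩
        have hj' : (QuotientGroup.mk y : ↥H ⧸ Z) ^ 2 ^ j = 1 := congrArg Subtype.val hj
        rw [← QuotientGroup.mk_pow, QuotientGroup.eq_one_iff] at hj' ⊢
        have := Subgroup.mem_subgroupOf.1 hj'
        rw [SubmonoidClass.coe_pow] at this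
        show ((x ^ 2 ^ j : ↥K) : G) ∈ cenSubgroup ρ K
        rw [SubmonoidClass.coe_pow, ← hyx]; exact this
      apply quot_not_solvable c
      haveI : IsPGroup 2 (↥K ⧸ cenIn ρ K) := fun q => by
        induction q using QuotientGroup.induction_on with
        | H x => exact hK2 x
      haveI := ‹IsPGroup 2 (↥K ⧸ cenIn ρ K)›.isNilpotent
      infer_instance
    · refine hb (cen_of_commutator c hbN fun x hx y hy => (h _ ?_ y hy).map ρ)
      exact ⟨⟨_, Subgroup.mem_sup_left (hcom ⟨x, Subgroup.mem_sup_left hx⟩)⟩,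
        ⟨hmem x hx (Subgroup.mem_sup_left hx),
          Subgroup.mem_subgroupOf.2 (hcom ⟨x, Subgroup.mem_sup_left hx⟩)⟩, rfl⟩
  obtain ⟨g, rfl⟩ := QuotientGroup.mk_surjective h
  -- `k₀ = [b, g]` maps to `h⁻²`
  set k₀ : G := b * (g : G) * b⁻¹ * (g : G)⁻¹ with hk₀
  have hk₀K : k₀ ∈ K := hcom g
  have hk₀i : b * k₀ * b⁻¹ = k₀⁻¹ := by
    have hbb : b⁻¹ = b := inv_eq_of_mul_eq_one_right hb2
    rw [hk₀, hbb]
    have e1 : b * (b * (g : G) * b * (g : G)⁻¹) * b = (g : G) * b * (g : G)⁻¹ * b := by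
      simp only [← mul_assoc, hb2, one_mul]
    rw [e1, mul_inv_rev, mul_inv_rev, mul_inv_rev, inv_inv, hbb]; group
  obtain ⟨e, n', hn', hn⟩ := Nat.exists_eq_pow_mul_and_not_dvd (orderOf_pos k₀).ne' 2 (by norm_num)
  refine ⟨k₀ ^ 2 ^ e, ⟨pow_mem hk₀K _, fun hc => hh1 ?_, n', Nat.odd_iff.2 (Nat.two_dvd_ne_zero.1 hn'),
    by rw [← pow_mul, ← hn, pow_orderOf_eq_one]⟩, by rw [← conj_pow, hk₀i, inv_pow]⟩
  have hkH : k₀ ∈ H := Subgroup.mem_sup_left hk₀K
  have e2 : (QuotientGroup.mk (⟨k₀, hkH⟩ : ↥H) : ↥H ⧸ Z) =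
      (QuotientGroup.mk g)⁻¹ * (QuotientGroup.mk g)⁻¹ := by
    rw [← hhi]
    calc (QuotientGroup.mk (⟨k₀, hkH⟩ : ↥H) : ↥H ⧸ Z) = t * QuotientGroup.mk g * t⁻¹ * (QuotientGroup.mk g)⁻¹ := rfl
      _ = _ := by rw [hhi]
  have e3 : (QuotientGroup.mk (⟨k₀, hkH⟩ : ↥H) : ↥H ⧸ Z) ^ 2 ^ e = 1 := by
    rw [← QuotientGroup.mk_pow, QuotientGroup.eq_one_iff]
    exact Subgroup.mem_subgroupOf.2 hc
  rw [e2, ← sq, ← pow_mul, inv_pow, inv_eq_one, ← orderOf_dvd_iff_pow_eq_one] at e3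
  have h1 : orderOf (QuotientGroup.mk g : ↥H ⧸ Z) = 1 :=
    Nat.eq_one_of_dvd_coprimes ((Nat.coprime_two_right.2 hho).pow_right (e + 1))
      dvd_rfl (by rw [pow_succ']; exact e3)
  exact orderOf_eq_one_iff.1 h1

end CfsgLib.PGV
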